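/-
The plane `F³` as the cubic extension `L` of `F`.
Main results: `exists_gl`, `det_frob`, `class_eq_iff`, `trace_eq`, `norm_eq`.
-/
import Cfsg.Agent.Lib.SL3Max.Flags

set_option autoImplicit false
set_option linter.unusedSectionVars false

namespace Cfsg.Agent.SL3Max.Singer

open Cfsg.Agent.Transvect Module Matrix

variable {F : Type*} [Field F] [Fintype F] {L : Type*} [Field L] [Finite L] [Algebra F L]

/-- Every linear map of `L` is a matrix. -/
lemma exists_gl (Φ : L ≃ₗ[F] V3 F) (e : L ≃ₗ[F] L) :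
    ∃ g : GL (Fin 3) F, (∀ y, app g (Φ y) = Φ (e y)) ∧
      (g : Matrix (Fin 3) (Fin 3) F).det = LinearMap.det (e : L →ₗ[F] L) := by
  set f : V3 F ≃ₗ[F] V3 F := Φ.symm.trans (e.trans Φ) with hf
  refine ⟨⟨LinearMap.toMatrix' (f : V3 F →ₗ[F] V3 F), LinearMap.toMatrix' (f.symm : V3 F →ₗ[F] V3 F),
    ?_, ?_⟩, fun y => ?_, ?_⟩
  · rw [← LinearMap.toMatrix'_comp]; simp
  · rw [← LinearMap.toMatrix'_comp]; simp
  · rw [app_apply]
    show LinearMap.toMatrix' (f : V3 F →ₗ[F] V3 F) *ᵥ Φ y = _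
    rw [LinearMap.toMatrix'_mulVec]
    simp [hf]
  · show (LinearMap.toMatrix' (f : V3 F →ₗ[F] V3 F)).det = _
    rw [LinearMap.det_toMatrix', ← LinearMap.det_conj (e : L →ₗ[F] L) Φ]
    congr 1

/-- The Frobenius map of `L` over `F`. -/
noncomputable def frob (F L : Type*) [Field F] [Fintype F] [Field L] [Finite L] [Algebra F L] :
    L ≃ₐ[F] L :=
  haveI : Module.Finite F L := Module.Finite.of_finite
  FiniteField.frobeniusAlgEquivOfAlgebraic F L

lemma frob_apply (x : L) : frob F L x = x ^ Fintype.card F := rfl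

variable (hdeg : finrank F L = 3)
include hdeg

lemma det_frob : LinearMap.det (frob F L).toLinearMap = 1 := by
  classical
  haveI : Module.Finite F L := Module.Finite.of_finite
  let b := IsGalois.normalBasis F L
  have hb : ∀ τ, (frob F L).toLinearMap (b τ) = b (frob F L * τ) := fun τ => by
    simp only [b, AlgEquiv.toLinearMap_apply]
    rw [IsGalois.normalBasis_apply (frob F L * τ), IsGalois.normalBasis_apply τ]
    rfl
  have hM : LinearMap.toMatrix b b (frob F L).toLinearMap =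
      Equiv.Perm.permMatrix F (Equiv.mulLeft (frob F L)).symm := by
    ext i j
    rw [LinearMap.toMatrix_apply, hb, b.repr_self, Finsupp.single_apply]
    simp only [Equiv.Perm.permMatrix, PEquiv.toMatrix_apply, Equiv.toPEquiv_apply, Option.mem_def,
      Option.some.injEq]
    refine if_congr ?_ rfl rfl
    rw [Equiv.symm_apply_eq, Equiv.coe_mulLeft, eq_comm]
  rw [← LinearMap.det_toMatrix b, hM, Matrix.det_permutation]
  have h3 : (Equiv.mulLeft (frob F L)).symm ^ 3 = (1 : Equiv.Perm (L ≃ₐ[F] L)) := by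
    have h : frob F L ^ 3 = 1 := by
      rw [← hdeg, ← FiniteField.orderOf_frobeniusAlgEquivOfAlgebraic F L]
      exact pow_orderOf_eq_one _
    rw [Equiv.mulLeft_symm, Equiv.pow_mulLeft, inv_pow, h, inv_one, Equiv.mulLeft_one]
  have hs := congrArg Equiv.Perm.sign h3
  rw [map_pow, map_one] at hs
  rcases Int.units_eq_one_or (Equiv.Perm.sign (Equiv.mulLeft (frob F L)).symm) with h | h
  · rw [h]; simp
  · rw [h] at hs; exact absurd hs (by decide)

lemma trace_eq (x : L) : algebraMap F L (Algebra.trace F L x) =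
    x + x ^ Fintype.card F + x ^ Fintype.card F ^ 2 := by
  rw [FiniteField.algebraMap_trace_eq_sum_pow, hdeg, Nat.card_eq_fintype_card]
  simp [Finset.sum_range_succ]

lemma norm_eq (x : L) : algebraMap F L (Algebra.norm F x) =
    x * x ^ Fintype.card F * x ^ Fintype.card F ^ 2 := by
  rw [FiniteField.algebraMap_norm_eq_prod_pow, hdeg, Nat.card_eq_fintype_card]
  simp [Finset.prod_range_succ]

lemma norm_algebraMap (a : F) : Algebra.norm F (algebraMap F L a) = a ^ 3 := by
  rw [Algebra.norm_algebraMap, hdeg]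

omit hdeg in
/-- A functional with `ψ (Φ y) = Tr (a y)`. -/
noncomputable def dd (Φ : L ≃ₗ[F] V3 F) (a : L) : D3 F :=
  ((Algebra.trace F L).comp (LinearMap.mulLeft F a)).comp Φ.symm.toLinearMap

omit hdeg in
lemma dd_apply (Φ : L ≃ₗ[F] V3 F) (a y : L) : dd Φ a (Φ y) = Algebra.trace F L (a * y) := by
  simp [dd]

omit hdeg in
lemma eq_zero_of_trace {z : L} (h : ∀ a : L, Algebra.trace F L (a * z) = 0) : z = 0 := by
  haveI : Module.Finite F L := Module.Finite.of_finite
  by_contra hz
  obtain ⟨t, ht⟩ := Algebra.trace_surjective F L 1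
  have := h (t / z)
  rw [div_mul_cancel₀ _ hz, ht] at this
  exact one_ne_zero this

omit hdeg in
lemma dd_injective (Φ : L ≃ₗ[F] V3 F) : Function.Injective (dd Φ) := fun a b h => by
  refine sub_eq_zero.1 (eq_zero_of_trace (F := F) fun y => ?_)
  have := LinearMap.congr_fun h (Φ y)
  rw [dd_apply, dd_apply] at this
  rw [mul_comm, sub_mul, map_sub, this, sub_self]

omit hdeg in
lemma exists_dd (Φ : L ≃ₗ[F] V3 F) (ψ : D3 F) : ∃ a, dd Φ a = ψ := by
  haveI : Module.Finite F L := Module.Finite.of_finite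
  let f : L →ₗ[F] D3 F :=
    { toFun := dd Φ
      map_add' := fun a b => LinearMap.ext fun x => by simp [dd, add_mul]
      map_smul' := fun c a => LinearMap.ext fun x => by simp [dd] }
  refine (LinearMap.injective_iff_surjective_of_finrank_eq_finrank (f := f) ?_).1 (dd_injective Φ) ψ
  rw [show finrank F (D3 F) = finrank F (V3 F) from Subspace.dual_finrank_eq, ← Φ.finrank_eq]

omit hdeg in
lemma dd_ne_zero {Φ : L ≃ₗ[F] V3 F} {a : L} (ha : a ≠ 0) : dd Φ a ≠ 0 := fun h =>
  ha (dd_injective Φ (h.trans (by ext x; simp [dd])))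

/-- The data of an overgroup of the normaliser of a Singer cycle. -/
structure Setup (Φ : L ≃ₗ[F] V3 F) (M : Subgroup (GL (Fin 3) F)) : Prop where
  deg : finrank F L = 3
  le : M ≤ Cfsg.Geo.specialLinear (Fin 3) F
  mulg_mem : ∀ u : L, Algebra.norm F u = 1 → ∃ g ∈ M, ∀ y, app g (Φ y) = Φ (u * y)
  frob_mem : ∃ g ∈ M, ∀ y, app g (Φ y) = Φ (y ^ Fintype.card F)

omit hdeg in
/-- Multiplication by `u` moves a functional to the quotient. -/
lemma dd_conj {Φ : L ≃ₗ[F] V3 F} {g : GL (Fin 3) F} {u : L} (hu : u ≠ 0)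
    (hg : ∀ y, app g (Φ y) = Φ (u * y)) (a : L) :
    dd Φ a ∘ₗ (app g⁻¹).toLinearMap = dd Φ (a / u) := by
  refine LinearMap.ext fun x => ?_
  obtain ⟨y, rfl⟩ := Φ.surjective x
  have h : app g⁻¹ (Φ y) = Φ (y / u) := by
    apply (app g).injective
    rw [app_app_inv, hg, mul_div_cancel₀ _ hu]
  rw [LinearMap.comp_apply, LinearEquiv.coe_coe, h, dd_apply, dd_apply, mul_div_assoc',
    div_mul_eq_mul_div]

end Cfsg.Agent.SL3Max.Singer
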