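/-
Norm classes of the cubic extension and how many of their elements have a given trace.
Main results: `exists_split`, `three_Z`, `e_sum`, `e_sq_sum`, `e_sq_le`, `e_ne_zero`.
-/
import Cfsg.Agent.Lib.SL3Max.Singer.Basic
import Cfsg.Agent.Lib.SL3Max.MonoUnits

set_option autoImplicit false
set_option linter.unusedSectionVars false

namespace Cfsg.Agent.SL3Max.Singer

open Module Finset

variable {F : Type*} [Field F] [Fintype F] {L : Type*} [Field L] [Fintype L] [Algebra F L]

/-- The class of `x`: the power `(q - 1)/3` of its norm. -/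
noncomputable def cls (F : Type*) [Field F] [Fintype F] {L : Type*} [Field L] [Algebra F L]
    (x : L) : F :=
  Algebra.norm F x ^ ((Fintype.card F - 1) / 3)

open Classical in
/-- The elements of a class. -/
noncomputable def clsSet (L : Type*) [Field L] [Fintype L] [Algebra F L] (κ : F) : Finset L :=
  univ.filter fun x => cls F x = κ

open Classical in
/-- The number of elements of trace zero in a class. -/
noncomputable def Zn (L : Type*) [Field L] [Fintype L] [Algebra F L] (κ : F) : ℕ :=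
  ((clsSet L κ).filter fun x => Algebra.trace F L x = 0).card

open Classical in
/-- The number of elements of trace one in a class. -/
noncomputable def An (L : Type*) [Field L] [Fintype L] [Algebra F L] (κ : F) : ℕ :=
  ((clsSet L κ).filter fun x => Algebra.trace F L x = 1).card

/-- The deviation of a class. -/
noncomputable def ev (L : Type*) [Field L] [Fintype L] [Algebra F L] (κ : F) : ℤ :=
  (Fintype.card F : ℤ) ^ 2 - 3 * (An L κ : ℤ)

lemma mem_clsSet {x : L} {κ : F} : x ∈ clsSet L κ ↔ cls F x = κ := by simp [clsSet]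

lemma cls_mul (x y : L) : cls F (x * y) = cls F x * cls F y := by
  rw [cls, cls, cls, map_mul, mul_pow]

variable {m : ℕ} (hm : Fintype.card F = 3 * m + 1) (hdeg : finrank F L = 3)
include hm

lemma m_pos : 0 < m := by
  have := Fintype.one_lt_card (α := F); omega

lemma cls_def (x : L) : cls F x = Algebra.norm F x ^ m := by
  rw [cls, show (Fintype.card F - 1) / 3 = m by omega]

lemma cls_zero : cls F (0 : L) = 0 := by
  haveI : Module.Finite F L := Module.Finite.of_finite
  rw [cls_def hm, Algebra.norm_zero, zero_pow (m_pos hm).ne']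

lemma pow_card_sub {a : F} (ha : a ≠ 0) : a ^ (3 * m) = 1 := by
  rw [show 3 * m = Fintype.card F - 1 by omega, FiniteField.pow_card_sub_one_eq_one a ha]

lemma cls_cube {x : L} (hx : x ≠ 0) : cls F x ^ 3 = 1 := by
  rw [cls_def hm, ← pow_mul, mul_comm m 3, pow_card_sub hm (Algebra.norm_ne_zero_iff.2 hx)]

lemma ne_zero_of_cls {x : L} {κ : F} (hκ : κ ^ 3 = 1) (h : cls F x = κ) : x ≠ 0 := fun h0 => by
  rw [h0, cls_zero hm] at h
  rw [← h, zero_pow three_ne_zero] at hκ
  exact zero_ne_one hκ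

/-- A generator of the classes. -/
lemma exists_omega : ∃ ω : F, ω ^ 3 = 1 ∧ ω ≠ 1 ∧ 1 + ω + ω ^ 2 = 0 ∧
    (∀ κ : F, κ ^ 3 = 1 → κ = 1 ∨ κ = ω ∨ κ = ω ^ 2) := by
  obtain ⟨ω, h3, h1⟩ := exists_cube_root_one hm
  have hs : 1 + ω + ω ^ 2 = 0 := by
    have h : (ω - 1) * (1 + ω + ω ^ 2) = 0 := by linear_combination h3
    exact (mul_eq_zero.1 h).resolve_left (sub_ne_zero.2 h1)
  refine ⟨ω, h3, h1, hs, fun κ hκ => ?_⟩
  have h : (κ - 1) * ((κ - ω) * (κ - ω ^ 2)) = 0 := by
    linear_combination hκ - h3 + (κ * ω - κ ^ 2) * hs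
  rcases mul_eq_zero.1 h with h | h
  · exact Or.inl (sub_eq_zero.1 h)
  · rcases mul_eq_zero.1 h with h | h
    · exact Or.inr (Or.inl (sub_eq_zero.1 h))
    · exact Or.inr (Or.inr (sub_eq_zero.1 h))

lemma omega_ne {ω : F} (h3 : ω ^ 3 = 1) (h1 : ω ≠ 1) : ω ^ 2 ≠ 1 ∧ ω ≠ ω ^ 2 := by
  refine ⟨fun h => h1 ?_, fun h => h1 ?_⟩
  · linear_combination h3 - ω * h
  · linear_combination h3 + (1 + ω) * h

lemma exists_cls {κ : F} (hκ : κ ^ 3 = 1) : ∃ x : L, x ≠ 0 ∧ cls F x = κ := by
  haveI : Module.Finite F L := Module.Finite.of_finite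
  have hκ0 : κ ≠ 0 := fun h => by rw [h, zero_pow three_ne_zero] at hκ; exact zero_ne_one hκ
  obtain ⟨c, hc⟩ := (mem_range_prodPow hm (z := Units.mk0 κ hκ0)).2 (Units.ext (by simpa using hκ))
  have hc' := congrArg Units.val hc
  rw [prodPow_apply] at hc'
  obtain ⟨x, hx⟩ := FiniteField.norm_surjective F L ((c 0 * c 1 * c 2 : Fˣ) : F)
  refine ⟨x, fun h => ?_, ?_⟩
  · rw [h, Algebra.norm_zero] at hx
    exact (c 0 * c 1 * c 2).ne_zero hx.symm
  · rw [cls_def hm, hx]
    simpa using hc'

include hdeg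

lemma cls_algebraMap {a : F} (ha : a ≠ 0) : cls F (algebraMap F L a) = 1 := by
  rw [cls_def hm, norm_algebraMap hdeg, ← pow_mul, pow_card_sub hm ha]

lemma cls_smul {a : F} (ha : a ≠ 0) (x : L) : cls F (a • x) = cls F x := by
  rw [Algebra.smul_def, cls_mul, cls_algebraMap hm hdeg ha, one_mul]

/-- Elements of one class differ by a scalar and an element of norm one. -/
lemma exists_split {x y : L} (hx : x ≠ 0) (hy : y ≠ 0) (h : cls F x = cls F y) :
    ∃ (u : L) (a : F), Algebra.norm F u = 1 ∧ a ≠ 0 ∧ x = u * a • y := by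
  haveI : Module.Finite F L := Module.Finite.of_finite
  set b := Algebra.norm F (x / y) with hb
  have hb0 : b ≠ 0 := Algebra.norm_ne_zero_iff.2 (div_ne_zero hx hy)
  have hbm : b ^ m = 1 := by
    have h1 : cls F x = cls F (x / y) * cls F y := by rw [← cls_mul, div_mul_cancel₀ _ hy]
    rw [h, cls_def hm (x / y), ← hb] at h1
    exact (mul_eq_right₀ (fun h0 => by
      have := cls_cube hm hy; rw [h0, zero_pow three_ne_zero] at this; exact zero_ne_one this)).1
        h1.symm
  obtain ⟨w, hw⟩ := exists_cube_of_pow hm (x := Units.mk0 b hb0) (Units.ext (by simpa using hbm))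
  have hw' : (w : F) ^ 3 = b := by simpa using congrArg Units.val hw
  refine ⟨x / y / algebraMap F L w, w, ?_, w.ne_zero, ?_⟩
  · have h1 : Algebra.norm F (x / y / algebraMap F L w) * b = b := by
      conv_lhs => rw [← hw', ← norm_algebraMap (L := L) hdeg, ← map_mul,
        div_mul_cancel₀ _ ((map_ne_zero (algebraMap F L)).2 w.ne_zero)]
    exact (mul_eq_right₀ hb0).1 h1
  · rw [Algebra.smul_def]
    have := (map_ne_zero (algebraMap F L)).2 w.ne_zero
    field_simp

lemma card_clsSet {κ : F} (hκ : κ ^ 3 = 1) :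
    3 * (clsSet L κ).card + 1 = Fintype.card F ^ 3 := by
  classical
  obtain ⟨ω, h3, h1, -, hall⟩ := exists_omega hm
  obtain ⟨hω2, hωω⟩ := omega_ne hm h3 h1
  have heq : ∀ κ : F, κ ^ 3 = 1 → (clsSet L κ).card = (clsSet L (1 : F)).card := by
    intro κ hκ
    obtain ⟨x, hx, hxκ⟩ := exists_cls (L := L) hm hκ
    refine card_nbij' (fun y => y / x) (fun y => y * x) ?_ ?_ ?_ ?_
    · intro y hy
      simp only [mem_coe, mem_clsSet] at hy ⊢
      have h2 : cls F (y / x) * cls F x = κ := by rw [← cls_mul, div_mul_cancel₀ _ hx, hy]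
      rw [hxκ] at h2
      exact (mul_eq_right₀ (fun h0 => by
        rw [h0, zero_pow three_ne_zero] at hκ; exact zero_ne_one hκ)).1 h2
    · intro y hy
      simp only [mem_coe, mem_clsSet] at hy ⊢
      rw [cls_mul, hy, hxκ, one_mul]
    · intro y _; exact div_mul_cancel₀ _ hx
    · intro y _; exact mul_div_cancel_right₀ _ hx
  have hsplit : (univ.erase (0 : L)).card = ∑ κ ∈ ({1, ω, ω ^ 2} : Finset F), (clsSet L κ).card := by
    rw [card_eq_sum_card_fiberwise (f := cls F) (t := ({1, ω, ω ^ 2} : Finset F))]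
    · refine sum_congr rfl fun κ hκ => congrArg card ?_
      ext x
      simp only [mem_filter, mem_erase, mem_univ, and_true, mem_clsSet]
      refine ⟨And.right, fun h => ⟨ne_zero_of_cls hm ?_ h, h⟩⟩
      simp only [mem_insert, mem_singleton] at hκ
      rcases hκ with rfl | rfl | rfl
      · exact one_pow 3
      · exact h3
      · rw [← pow_mul, pow_mul' ω 2 3, h3, one_pow]
    · intro x hx
      simp only [mem_coe, mem_erase] at hx
      simpa using hall _ (cls_cube hm hx.1)
  have h32 : (ω ^ 2) ^ 3 = 1 := by rw [← pow_mul, pow_mul' ω 2 3, h3, one_pow]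
  rw [sum_insert (by simpa using ⟨Ne.symm h1, Ne.symm hω2⟩), sum_insert (by simpa using hωω),
    sum_singleton, heq _ h3, heq _ h32, card_erase_of_mem (mem_univ _), card_univ,
    Module.card_eq_pow_finrank (K := F) (V := L), hdeg] at hsplit
  rw [heq κ hκ]
  have := Nat.one_le_pow 3 (Fintype.card F) Fintype.card_pos
  omega

lemma card_trace_zero {x : L} (hx : x ≠ 0) [DecidableEq F] :
    (univ.filter fun a : L => Algebra.trace F L (a * x) = 0).card = Fintype.card F ^ 2 := by
  haveI : Module.Finite F L := Module.Finite.of_finite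
  let f : L →ₗ[F] F := (Algebra.trace F L).comp (LinearMap.mulRight F x)
  have hf : f ≠ 0 := fun h => hx (eq_zero_of_trace (F := F) fun a => LinearMap.congr_fun h a)
  have h3 := LinearMap.finrank_range_add_finrank_ker f
  rw [LinearMap.range_eq_top.2 (LinearMap.surjective hf), finrank_top, finrank_self, hdeg] at h3
  have h4 := Module.natCard_eq_pow_finrank (K := F) (V := LinearMap.ker f)
  rw [show finrank F (LinearMap.ker f) = 2 by omega, Nat.card_eq_fintype_card (α := F)] at h4
  rw [← h4, ← Fintype.card_subtype, ← Nat.card_eq_fintype_card]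
  exact Nat.card_congr (Equiv.subtypeEquivRight fun a => by simp [f])

lemma card_trace_zero_two {x y : L} (hx : x ≠ 0) (hy : ∀ c : F, y ≠ c • x) [DecidableEq F] :
    (univ.filter fun a : L => Algebra.trace F L (a * x) = 0 ∧ Algebra.trace F L (a * y) = 0).card
      = Fintype.card F := by
  haveI : Module.Finite F L := Module.Finite.of_finite
  let f : L →ₗ[F] F := (Algebra.trace F L).comp (LinearMap.mulRight F x)
  let g : L →ₗ[F] F := (Algebra.trace F L).comp (LinearMap.mulRight F y)
  have hf : f ≠ 0 := fun h => hx (eq_zero_of_trace (F := F) fun a => LinearMap.congr_fun h a)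
  have hg : g.domRestrict (LinearMap.ker f) ≠ 0 := fun h => by
    obtain ⟨a0, ha0⟩ := LinearMap.surjective hf 1
    refine hy (g a0) (sub_eq_zero.1 (eq_zero_of_trace (F := F) fun a => ?_))
    have h1 : g (a - f a • a0) = 0 :=
      LinearMap.congr_fun h ⟨a - f a • a0, by simp [ha0]⟩
    rw [map_sub, map_smul, smul_eq_mul] at h1
    rw [mul_sub, map_sub, mul_smul_comm, map_smul, smul_eq_mul]
    exact (congrArg _ (mul_comm _ _)).trans h1
  have h3 := LinearMap.finrank_range_add_finrank_ker f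
  rw [LinearMap.range_eq_top.2 (LinearMap.surjective hf), finrank_top, finrank_self, hdeg] at h3
  have h5 := LinearMap.finrank_range_add_finrank_ker (g.domRestrict (LinearMap.ker f))
  rw [LinearMap.range_eq_top.2 (LinearMap.surjective hg), finrank_top, finrank_self] at h5
  have h4 := Module.natCard_eq_pow_finrank (K := F) (V := LinearMap.ker (g.domRestrict (LinearMap.ker f)))
  rw [show finrank F (LinearMap.ker (g.domRestrict (LinearMap.ker f))) = 1 by omega, pow_one,
    Nat.card_eq_fintype_card (α := F)] at h4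
  rw [← h4, ← Fintype.card_subtype, ← Nat.card_eq_fintype_card]
  exact Nat.card_congr
    { toFun := fun a => ⟨⟨a.1, by simpa [f] using a.2.1⟩, by simpa [g] using a.2.2⟩
      invFun := fun a => ⟨a.1.1, LinearMap.mem_ker.1 a.1.2, LinearMap.mem_ker.1 a.2⟩
      left_inv := fun a => rfl
      right_inv := fun a => rfl }

/-- A class splits by the trace. -/
lemma card_eq_Z_add {κ : F} :
    (clsSet L κ).card = Zn L κ + (Fintype.card F - 1) * An L κ := by
  classical
  have h := card_filter_add_card_filter_not (s := clsSet L κ) (fun x => Algebra.trace F L x = 0)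
  rw [← h, Zn]
  congr 1
  rw [An, show Fintype.card F - 1 = (univ.erase (0 : F)).card from
    (card_erase_of_mem (mem_univ _)).symm, ← card_product]
  refine card_nbij' (fun x => (Algebra.trace F L x, (Algebra.trace F L x)⁻¹ • x))
    (fun p => p.1 • p.2) ?_ ?_ ?_ ?_
  · intro x hx
    simp only [mem_coe, mem_filter, mem_clsSet] at hx
    simp only [mem_coe, mem_product, mem_erase, mem_univ, and_true, mem_filter, mem_clsSet]
    exact ⟨hx.2, by rw [cls_smul hm hdeg (inv_ne_zero hx.2)]; exact hx.1,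
      by rw [map_smul, smul_eq_mul, inv_mul_cancel₀ hx.2]⟩
  · intro p hp
    simp only [mem_coe, mem_product, mem_erase, mem_univ, and_true, mem_filter, mem_clsSet] at hp
    simp only [mem_coe, mem_filter, mem_clsSet]
    exact ⟨by rw [cls_smul hm hdeg hp.1]; exact hp.2.1,
      by rw [map_smul, hp.2.2, smul_eq_mul, mul_one]; exact hp.1⟩
  · intro x hx
    simp only [mem_coe, mem_filter] at hx
    simp only [smul_smul, mul_inv_cancel₀ hx.2, one_smul]
  · intro p hp
    simp only [mem_coe, mem_product, mem_erase, mem_univ, and_true, mem_filter] at hp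
    simp only [map_smul, hp.2.2, smul_eq_mul, mul_one, smul_smul, inv_mul_cancel₀ hp.1, one_smul]

lemma three_Z {κ : F} (hκ : κ ^ 3 = 1) :
    3 * (Zn L κ : ℤ) = ((Fintype.card F : ℤ) - 1) * (Fintype.card F + 1 + ev L κ) := by
  have h1 := congrArg (Nat.cast : ℕ → ℤ) (card_clsSet (L := L) hm hdeg hκ)
  have h2 := congrArg (Nat.cast : ℕ → ℤ) (card_eq_Z_add (L := L) hm hdeg (κ := κ))
  push_cast [Nat.cast_sub Fintype.card_pos] at h1 h2
  rw [ev]
  linear_combination h1 - 3 * h2

lemma sum_Z {ω : F} (h3 : ω ^ 3 = 1) (h1 : ω ≠ 1)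
    (hall : ∀ κ : F, κ ^ 3 = 1 → κ = 1 ∨ κ = ω ∨ κ = ω ^ 2) :
    Zn L (1 : F) + Zn L ω + Zn L (ω ^ 2) + 1 = Fintype.card F ^ 2 := by
  classical
  obtain ⟨hω2, hωω⟩ := omega_ne hm h3 h1
  have hC : ∀ κ ∈ ({1, ω, ω ^ 2} : Finset F), κ ^ 3 = 1 := by
    simp only [mem_insert, mem_singleton]
    rintro κ (rfl | rfl | rfl)
    · exact one_pow 3
    · exact h3
    · rw [← pow_mul, pow_mul' ω 2 3, h3, one_pow]
  have h : ((univ.filter fun a : L => Algebra.trace F L (a * 1) = 0).erase 0).card
      = ∑ κ ∈ ({1, ω, ω ^ 2} : Finset F), Zn L κ := by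
    rw [card_eq_sum_card_fiberwise (f := cls F) (t := ({1, ω, ω ^ 2} : Finset F))]
    · refine sum_congr rfl fun κ hκ => congrArg card ?_
      ext x
      simp only [mem_filter, mem_erase, mem_univ, true_and, mul_one, mem_clsSet]
      exact ⟨fun h => ⟨h.2, h.1.2⟩, fun h => ⟨⟨ne_zero_of_cls hm (hC κ hκ) h.1, h.2⟩, h.1⟩⟩
    · intro x hx
      simp only [mem_coe, mem_erase] at hx
      simpa using hall _ (cls_cube hm hx.1)
  rw [sum_insert (by simpa using ⟨Ne.symm h1, Ne.symm hω2⟩), sum_insert (by simpa using hωω),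
    sum_singleton, card_erase_of_mem (by simp), card_trace_zero hm hdeg one_ne_zero] at h
  have := Nat.one_le_pow 2 (Fintype.card F) Fintype.card_pos
  omega

lemma sum_Z_sq {ω : F} (h3 : ω ^ 3 = 1) (h1 : ω ≠ 1)
    (hall : ∀ κ : F, κ ^ 3 = 1 → κ = 1 ∨ κ = ω ∨ κ = ω ^ 2) :
    (Zn L (1 : F) : ℤ) ^ 2 + (Zn L ω : ℤ) ^ 2 + (Zn L (ω ^ 2) : ℤ) ^ 2 =
      ((Fintype.card F : ℤ) - 1) * ((Fintype.card F : ℤ) ^ 2 - 1) +
        ((clsSet L (1 : F)).card - ((Fintype.card F : ℤ) - 1)) * ((Fintype.card F : ℤ) - 1) := by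
  classical
  obtain ⟨hω2, hωω⟩ := omega_ne hm h3 h1
  have h32 : (ω ^ 2) ^ 3 = 1 := by rw [← pow_mul, pow_mul' ω 2 3, h3, one_pow]
  set S := clsSet L (1 : F) with hS
  set D := univ.erase (0 : L) with hD
  let P : L → L × L → Prop := fun a p =>
    Algebra.trace F L (a * p.1) = 0 ∧ Algebra.trace F L (a * p.2) = 0
  have key := sum_card_bipartiteAbove_eq_sum_card_bipartiteBelow P (s := D) (t := S ×ˢ S)
  have hleft : ∀ a ∈ D, ((S ×ˢ S).bipartiteAbove P a).card = Zn L (cls F a) ^ 2 := by
    intro a ha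
    have ha0 : a ≠ 0 := (mem_erase.1 ha).1
    have hT : (S.filter fun x => Algebra.trace F L (a * x) = 0).card = Zn L (cls F a) := by
      refine card_nbij' (fun x => a * x) (fun x => x / a) ?_ ?_ ?_ ?_
      · intro x hx
        simp only [mem_coe, mem_filter, hS, mem_clsSet] at hx ⊢
        rw [cls_mul, hx.1, mul_one]; exact ⟨rfl, hx.2⟩
      · intro x hx
        simp only [mem_coe, mem_filter, hS, mem_clsSet] at hx ⊢
        rw [mul_div_cancel₀ _ ha0]
        refine ⟨?_, hx.2⟩
        have h2 : cls F a * cls F (x / a) = cls F a := by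
          rw [← cls_mul, mul_div_cancel₀ _ ha0, hx.1]
        exact (mul_eq_left₀ (fun h0 => by
          have := cls_cube hm ha0; rw [h0, zero_pow three_ne_zero] at this; exact zero_ne_one this)).1 h2
      · intro x _; exact mul_div_cancel_left₀ _ ha0
      · intro x _; exact mul_div_cancel₀ _ ha0
    rw [sq, ← hT, ← card_product]
    congr 1
    ext p
    simp only [bipartiteAbove, mem_filter, mem_product, P]
    tauto
  have hright : ∀ x ∈ S, (∑ y ∈ S, ((D.bipartiteBelow P (x, y)).card : ℤ)) =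
      ((Fintype.card F : ℤ) - 1) * ((Fintype.card F : ℤ) ^ 2 - 1) +
        (S.card - ((Fintype.card F : ℤ) - 1)) * ((Fintype.card F : ℤ) - 1) := by
    intro x hx
    rw [hS, mem_clsSet] at hx
    have hx0 := ne_zero_of_cls hm (one_pow 3) hx
    set W := (univ.erase (0 : F)).image (fun c => c • x) with hW
    have hWS : W ⊆ S := by
      intro y hy
      obtain ⟨c, hc, rfl⟩ := mem_image.1 hy
      rw [hS, mem_clsSet, cls_smul hm hdeg (mem_erase.1 hc).1, hx]
    have hWc : (W.card : ℤ) = (Fintype.card F : ℤ) - 1 := by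
      rw [hW, card_image_of_injective _ (smul_left_injective F hx0), card_erase_of_mem (mem_univ _),
        card_univ, Nat.cast_sub Fintype.card_pos, Nat.cast_one]
    have hq2 : 1 ≤ Fintype.card F ^ 2 := Nat.one_le_pow _ _ Fintype.card_pos
    have h1' : ∀ y ∈ W, ((D.bipartiteBelow P (x, y)).card : ℤ) = (Fintype.card F : ℤ) ^ 2 - 1 := by
      intro y hy
      obtain ⟨c, -, rfl⟩ := mem_image.1 hy
      have : D.bipartiteBelow P (x, c • x) =
          (univ.filter fun a : L => Algebra.trace F L (a * x) = 0).erase 0 := by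
        ext a
        simp only [bipartiteBelow, hD, mem_filter, mem_erase, mem_univ, and_true, true_and, P,
          mul_smul_comm, map_smul, smul_eq_mul]
        exact ⟨fun h => ⟨h.1, h.2.1⟩, fun h => ⟨h.1, h.2, by rw [h.2, mul_zero]⟩⟩
      rw [this, card_erase_of_mem (by simp), card_trace_zero hm hdeg hx0, Nat.cast_sub hq2]
      push_cast; rfl
    have h2' : ∀ y ∈ S \ W, ((D.bipartiteBelow P (x, y)).card : ℤ) = (Fintype.card F : ℤ) - 1 := by
      intro y hy
      obtain ⟨hyS, hyW⟩ := mem_sdiff.1 hy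
      have hne : ∀ c : F, y ≠ c • x := fun c hc => hyW (mem_image.2 ⟨c, mem_erase.2 ⟨fun h0 => by
        rw [hS, mem_clsSet, hc, h0, zero_smul, cls_zero hm] at hyS
        exact zero_ne_one hyS, mem_univ _⟩, hc.symm⟩)
      have : D.bipartiteBelow P (x, y) = (univ.filter fun a : L =>
          Algebra.trace F L (a * x) = 0 ∧ Algebra.trace F L (a * y) = 0).erase 0 := by
        ext a
        simp [bipartiteBelow, hD, P]
      rw [this, card_erase_of_mem (by simp), card_trace_zero_two hm hdeg hx0 hne,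
        Nat.cast_sub Fintype.card_pos, Nat.cast_one]
    rw [← sum_sdiff hWS, sum_congr rfl h1', sum_congr rfl h2', sum_const, sum_const,
      card_sdiff_of_subset hWS, nsmul_eq_mul, nsmul_eq_mul, Nat.cast_sub (card_le_card hWS), hWc]
    ring
  rw [sum_congr rfl hleft, sum_product,
    show ∑ a ∈ D, Zn L (cls F a) ^ 2 = ∑ κ ∈ ({1, ω, ω ^ 2} : Finset F),
        (clsSet L κ).card * Zn L κ ^ 2 by
      rw [← sum_fiberwise_of_maps_to (g := cls F) (t := ({1, ω, ω ^ 2} : Finset F))]
      · refine sum_congr rfl fun κ hκ => ?_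
        rw [sum_congr rfl (fun a ha => by rw [(mem_filter.1 ha).2]), sum_const, smul_eq_mul]
        congr 2
        ext x
        simp only [hD, mem_filter, mem_erase, mem_univ, and_true, mem_clsSet]
        refine ⟨And.right, fun h => ⟨ne_zero_of_cls hm ?_ h, h⟩⟩
        simp only [mem_insert, mem_singleton] at hκ
        rcases hκ with rfl | rfl | rfl
        exacts [one_pow 3, h3, h32]
      · intro x hx
        simpa using hall _ (cls_cube hm (mem_erase.1 hx).1)] at key
  rw [sum_insert (by simpa using ⟨Ne.symm h1, Ne.symm hω2⟩), sum_insert (by simpa using hωω),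
    sum_singleton] at key
  have key' := congrArg (Nat.cast : ℕ → ℤ) key
  push_cast at key'
  rw [sum_congr rfl hright, sum_const, nsmul_eq_mul] at key'
  have hc1 := card_clsSet (L := L) hm hdeg (one_pow 3)
  have hcw := card_clsSet (L := L) hm hdeg h3
  have hcw2 := card_clsSet (L := L) hm hdeg h32
  rw [show (clsSet L ω).card = S.card by rw [hS]; omega,
    show (clsSet L (ω ^ 2)).card = S.card by rw [hS]; omega] at key'
  have hS0 : (S.card : ℤ) ≠ 0 := by
    have : 1 < Fintype.card F ^ 3 := Nat.one_lt_pow three_ne_zero Fintype.one_lt_card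
    rw [hS]
    exact_mod_cast (by omega : (clsSet L (1 : F)).card ≠ 0)
  refine mul_left_cancel₀ hS0 ?_
  linear_combination key'

lemma e_data {ω : F} (h3 : ω ^ 3 = 1) (h1 : ω ≠ 1)
    (hall : ∀ κ : F, κ ^ 3 = 1 → κ = 1 ∨ κ = ω ∨ κ = ω ^ 2) :
    ev L (1 : F) + ev L ω + ev L (ω ^ 2) = 0 ∧
      ev L (1 : F) ^ 2 + ev L ω ^ 2 + ev L (ω ^ 2) ^ 2 = 6 * Fintype.card F := by
  have h32 : (ω ^ 2) ^ 3 = 1 := by rw [← pow_mul, pow_mul' ω 2 3, h3, one_pow]
  have z0 := three_Z (L := L) hm hdeg (one_pow 3)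
  have z1 := three_Z (L := L) hm hdeg h3
  have z2 := three_Z (L := L) hm hdeg h32
  have hs := congrArg (Nat.cast : ℕ → ℤ) (sum_Z (L := L) hm hdeg h3 h1 hall)
  have hq := sum_Z_sq (L := L) hm hdeg h3 h1 hall
  have hc := congrArg (Nat.cast : ℕ → ℤ) (card_clsSet (L := L) hm hdeg (one_pow 3))
  push_cast at hs hc
  have hq1 : ((Fintype.card F : ℤ) - 1) ≠ 0 := by
    have := Fintype.one_lt_card (α := F); omega
  set q : ℤ := (Fintype.card F : ℤ) with hqdef
  set z0' : ℤ := (Zn L (1 : F) : ℤ)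
  set z1' : ℤ := (Zn L ω : ℤ)
  set z2' : ℤ := (Zn L (ω ^ 2) : ℤ)
  have hsum : ev L (1 : F) + ev L ω + ev L (ω ^ 2) = 0 := by
    refine mul_left_cancel₀ hq1 ?_
    linear_combination -(z0 + z1 + z2) + 3 * hs
  refine ⟨hsum, mul_left_cancel₀ (mul_ne_zero hq1 hq1) ?_⟩
  linear_combination -(3 * z0' + (q - 1) * (q + 1 + ev L (1 : F))) * z0
    - (3 * z1' + (q - 1) * (q + 1 + ev L ω)) * z1
    - (3 * z2' + (q - 1) * (q + 1 + ev L (ω ^ 2))) * z2
    + 9 * hq + 3 * (q - 1) * hc - 2 * (q + 1) * (q - 1) * (q - 1) * hsum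

lemma e_sq_le {κ : F} (hκ : κ ^ 3 = 1) : ev L κ ^ 2 ≤ 4 * Fintype.card F := by
  obtain ⟨ω, h3, h1, -, hall⟩ := exists_omega hm
  obtain ⟨hs, hq⟩ := e_data (L := L) hm hdeg h3 h1 hall
  have aux : ∀ {a b c Q : ℤ}, a + b + c = 0 → a ^ 2 + b ^ 2 + c ^ 2 = 6 * Q → a ^ 2 ≤ 4 * Q := by
    intro a b c Q h1 h2
    obtain rfl : a = -b - c := by omega
    nlinarith [sq_nonneg (b - c)]
  rcases hall κ hκ with rfl | rfl | rfl
  · exact aux hs hq
  · exact aux (b := ev L (1 : F)) (c := ev L (κ ^ 2)) (by omega) (by linarith)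
  · exact aux (b := ev L (1 : F)) (c := ev L ω) (by omega) (by linarith)

omit hdeg in
lemma e_mod_three (κ : F) : ev L κ % 3 = 1 := by
  have : ((Fintype.card F : ℤ)) ^ 2 = 3 * (3 * (m : ℤ) ^ 2 + 2 * m) + 1 := by rw [hm]; push_cast; ring
  rw [ev, this]; omega

omit hdeg in
lemma e_ne_zero (κ : F) : ev L κ ≠ 0 := fun h => by
  have := e_mod_three (L := L) hm κ; omega

end Cfsg.Agent.SL3Max.Singer
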