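/-
Orbits and transvections over the normaliser of a Singer cycle.
Main results: `Setup.ptTrans_or_invariant`, `Setup.card_egrp_dvd`, `Setup.centres_le`.
-/
import Cfsg.Agent.Lib.SL3Max.Singer.Classes
import Cfsg.Agent.Lib.SL3Max.Orbits

set_option autoImplicit false
set_option linter.unusedSectionVars false

namespace Cfsg.Agent.SL3Max.Singer

open Cfsg.Agent.Transvect Module Finset

variable {F : Type*} [Field F] [Fintype F]

/-- The translations of `M` with axis `ψ`. -/
def egrp (M : Subgroup (GL (Fin 3) F)) (ψ : D3 F) : AddSubgroup (V3 F) where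
  carrier := {v | ψ v = 0 ∧ tv v ψ ∈ M}
  zero_mem' := ⟨map_zero ψ, by
    rw [show tv (0 : V3 F) ψ = 1 from gl_ext fun x => by
      rw [tv_apply (map_zero ψ), smul_zero, add_zero, map_one]; rfl]
    exact one_mem M⟩
  add_mem' := fun {v w} hv hw => by
    have h : ψ (v + w) = 0 := by rw [map_add, hv.1, hw.1, add_zero]
    refine ⟨h, ?_⟩
    rw [show tv (v + w) ψ = tv v ψ * tv w ψ from gl_ext fun x => by
      rw [map_mul, LinearEquiv.mul_apply, tv_apply h, tv_apply hw.1, tv_apply hv.1, map_add, map_smul,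
        hw.1, smul_zero, add_zero, smul_add]
      abel]
    exact mul_mem hv.2 hw.2
  neg_mem' := fun {v} hv => by
    have hn : ψ (-v) = 0 := by rw [map_neg, hv.1, neg_zero]
    refine ⟨hn, ?_⟩
    rw [show tv (-v) ψ = (tv v ψ)⁻¹ from eq_inv_of_mul_eq_one_right (gl_ext fun x => by
      rw [map_mul, LinearEquiv.mul_apply, tv_apply hn, tv_apply hv.1,
        map_add, map_smul, map_neg, hv.1, map_one, smul_eq_mul, neg_zero, mul_zero, add_zero,
        smul_neg]
      show x + -(ψ x • v) + ψ x • v = x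
      abel)]
    exact inv_mem hv.2

lemma mem_egrp {M : Subgroup (GL (Fin 3) F)} {ψ : D3 F} {v : V3 F} :
    v ∈ egrp M ψ ↔ ψ v = 0 ∧ tv v ψ ∈ M := Iff.rfl

/-- An invariant set consists of cosets. -/
lemma card_dvd_of_invariant (E : AddSubgroup (V3 F)) (T : Finset (V3 F))
    (h : ∀ v ∈ E, ∀ x ∈ T, x + v ∈ T) : Nat.card E ∣ T.card := by
  set π : V3 F → V3 F ⧸ E := QuotientAddGroup.mk
  have hpre : π ⁻¹' (π '' (T : Set (V3 F))) = T := by
    refine Set.Subset.antisymm ?_ (Set.subset_preimage_image _ _)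
    rintro x ⟨t, ht, htx⟩
    have := h _ (QuotientAddGroup.eq.1 htx) t ht
    rwa [add_neg_cancel_left] at this
  have hc := Nat.card_congr (QuotientAddGroup.preimageMkEquivAddSubgroupProdSet E (π '' (T : Set (V3 F))))
  rw [hpre, Nat.card_prod] at hc
  exact ⟨_, (Nat.card_eq_finsetCard T).symm.trans hc⟩

/-- Few elements cover few directions. -/
lemma directions_le {p : ℕ} [CharP F p] (hp : p.Prime) (E : AddSubgroup (V3 F)) (T : Finset (V3 F))
    (hT : ∀ v ∈ T, v ≠ 0 ∧ ∃ a : F, a ≠ 0 ∧ a • v ∈ E) :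
    (p - 1) * T.card ≤ (Fintype.card F - 1) * (Nat.card E - 1) := by
  classical
  choose a ha hE using fun v : {v // v ∈ T} => (hT v v.2).2
  have hj : ∀ j : Fin (p - 1), ((j.1 + 1 : ℕ) : F) ≠ 0 := fun j h => by
    have h1 := Nat.le_of_dvd (Nat.succ_pos _) ((CharP.cast_eq_zero_iff F p _).1 h)
    have := j.2
    omega
  let f : {v // v ∈ T} × Fin (p - 1) → Fˣ × {w : E // w ≠ 0} := fun z =>
    (Units.mk0 (((z.2.1 + 1 : ℕ) : F) * a z.1)⁻¹ (inv_ne_zero (mul_ne_zero (hj _) (ha _))),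
      ⟨⟨(z.2.1 + 1) • (a z.1 • z.1.1), E.nsmul_mem (hE _) _⟩, fun h => by
        have h1 : (z.2.1 + 1) • (a z.1 • z.1.1) = (0 : V3 F) := congrArg Subtype.val h
        rw [← Nat.cast_smul_eq_nsmul F, smul_smul] at h1
        exact smul_ne_zero (mul_ne_zero (hj _) (ha _)) (hT _ z.1.2).1 h1⟩)
  have hf : Function.Injective f := by
    rintro ⟨v, i⟩ ⟨w, j⟩ h
    simp only [f, Prod.mk.injEq, Subtype.mk.injEq, Units.mk0, ← Nat.cast_smul_eq_nsmul F,
      smul_smul] at h
    obtain ⟨h1, h2⟩ := h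
    have h1' : ((i.1 + 1 : ℕ) : F) * a v = ((j.1 + 1 : ℕ) : F) * a w := by
      have := congrArg Units.val h1
      exact inv_inj.1 this
    rw [h1'] at h2
    have hvw : v = w :=
      Subtype.ext (smul_right_injective (V3 F) (mul_ne_zero (hj j) (ha w)) h2)
    subst hvw
    have h3 := CharP.natCast_injOn_Iio F p (Set.mem_Iio.2 (by have := i.2; omega))
      (Set.mem_Iio.2 (by have := j.2; omega)) (mul_right_cancel₀ (ha _) h1')
    exact Prod.ext rfl (Fin.ext (by dsimp only at h3 ⊢; omega))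
  have hle := Nat.card_le_card_of_injective f hf
  rw [Nat.card_prod, Nat.card_prod, Nat.card_fin, Nat.card_units, Nat.card_eq_fintype_card (α := F),
    Nat.card_eq_fintype_card (α := {v // v ∈ T}), Fintype.card_coe] at hle
  have hsub : Nat.card {w : E // w ≠ 0} = Nat.card E - 1 := by
    letI := Fintype.ofFinite E
    rw [Nat.card_eq_fintype_card, Nat.card_eq_fintype_card, Fintype.card_subtype_compl,
      Fintype.card_subtype_eq]
  rw [hsub, mul_comm T.card] at hle
  exact hle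

variable {L : Type*} [Field L] [Fintype L] [Algebra F L] {Φ : L ≃ₗ[F] V3 F}
  {M : Subgroup (GL (Fin 3) F)}

omit [Fintype F] in
lemma dd_smul (c : F) (a : L) : dd Φ (c • a) = c • dd Φ a :=
  LinearMap.ext fun x => by simp [dd, smul_mul_assoc]

namespace Setup

variable (S : Setup Φ M)
include S

/-- Points with norms differing by a cube are in one orbit. -/
lemma rel_of_split {x y : L} {u : L} {a : F} (hu : Algebra.norm F u = 1) (ha : a ≠ 0)
    (h : y = u * a • x) : ∃ g ∈ M, ∃ b : F, b ≠ 0 ∧ app g (Φ x) = b • Φ y := by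
  obtain ⟨g, hg, hgy⟩ := S.mulg_mem u hu
  refine ⟨g, hg, a⁻¹, inv_ne_zero ha, ?_⟩
  rw [hgy, h, mul_smul_comm, map_smul, smul_smul, inv_mul_cancel₀ ha, one_smul]

lemma ptTrans_of_cubes (hcube : ∀ b : F, b ≠ 0 → ∃ w : F, w ^ 3 = b) : PtTrans M := by
  intro v w hv hw
  haveI : Module.Finite F L := Module.Finite.of_finite
  obtain ⟨x, rfl⟩ := Φ.surjective v
  obtain ⟨y, rfl⟩ := Φ.surjective w
  have hx : x ≠ 0 := fun h => hv (by rw [h, map_zero])
  have hy : y ≠ 0 := fun h => hw (by rw [h, map_zero])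
  obtain ⟨c, hc⟩ := hcube _ (Algebra.norm_ne_zero_iff.2 (div_ne_zero hy hx))
  have hc0 : c ≠ 0 := fun h => Algebra.norm_ne_zero_iff.2 (div_ne_zero hy hx)
    (by rw [← hc, h, zero_pow three_ne_zero])
  have hcl := (map_ne_zero (algebraMap F L)).2 hc0
  obtain ⟨g, hg, b, -, hgb⟩ := S.rel_of_split (x := x) (y := y) (u := y / x / algebraMap F L c) (a := c)
    (by
      have h1 : Algebra.norm F (y / x / algebraMap F L c) * c ^ 3 = c ^ 3 := by
        conv_lhs => rw [← norm_algebraMap (L := L) S.deg, ← map_mul, div_mul_cancel₀ _ hcl]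
        exact hc.symm
      exact (mul_eq_right₀ (pow_ne_zero 3 hc0)).1 h1) hc0
    (by rw [Algebra.smul_def]; field_simp)
  exact ⟨g, hg, b, hgb⟩

lemma ptTrans_of_not_dvd (h : ¬ 3 ∣ Fintype.card F - 1) : PtTrans M := by
  refine S.ptTrans_of_cubes fun b hb => ?_
  have hco : (Nat.card Fˣ).Coprime 3 := by
    rw [Nat.card_units, Nat.card_eq_fintype_card]
    exact (Nat.prime_three.coprime_iff_not_dvd.2 h).symm
  obtain ⟨w, hw⟩ := (powCoprime hco).surjective (Units.mk0 b hb)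
  exact ⟨w, by simpa [powCoprime] using congrArg Units.val hw⟩

variable {m : ℕ} (hm : Fintype.card F = 3 * m + 1)
include hm

lemma rel_of_cls {x y : L} (hx : x ≠ 0) (hy : y ≠ 0) (h : cls F x = cls F y) :
    ∃ g ∈ M, ∃ b : F, b ≠ 0 ∧ app g (Φ x) = b • Φ y := by
  obtain ⟨u, a, hu, ha, he⟩ := exists_split hm S.deg hy hx h.symm
  exact S.rel_of_split hu ha he

/-- A group that is not transitive on points leaves a class in place. -/
theorem ptTrans_or_invariant : PtTrans M ∨ ∃ κ : F, κ ^ 3 = 1 ∧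
    ∀ g ∈ M, ∀ v : V3 F, cls F (Φ.symm v) = κ → cls F (Φ.symm (app g v)) = κ := by
  obtain ⟨ω, h3, h1, -, hall⟩ := exists_omega hm
  have h32 : (ω ^ 2) ^ 3 = 1 := by rw [← pow_mul, pow_mul' ω 2 3, h3, one_pow]
  let R : F → F → Prop := fun k l =>
    ∃ g ∈ M, ∃ v : V3 F, cls F (Φ.symm v) = k ∧ cls F (Φ.symm (app g v)) = l
  have hne : ∀ {k : F} {v : V3 F}, k ^ 3 = 1 → cls F (Φ.symm v) = k → Φ.symm v ≠ 0 :=
    fun hk h => ne_zero_of_cls hm hk h
  have hsymm : ∀ {k l}, R k l → R l k := fun {k l} ⟨g, hg, v, hk, hl⟩ =>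
    ⟨g⁻¹, inv_mem hg, app g v, hl, by rwa [app_inv_app]⟩
  have htrans : ∀ {k l n}, l ^ 3 = 1 → R k l → R l n → R k n := by
    rintro k l n hl ⟨g, hg, v, hv, hv'⟩ ⟨h, hh, w, hw, hw'⟩
    obtain ⟨f, hf, b, hb, hfb⟩ := S.rel_of_cls hm (hne hl hv') (hne hl hw) (hv'.trans hw.symm)
    rw [Φ.apply_symm_apply, Φ.apply_symm_apply] at hfb
    refine ⟨h * f * g, mul_mem (mul_mem hh hf) hg, v, hv, ?_⟩
    rw [map_mul, map_mul, LinearEquiv.mul_apply, LinearEquiv.mul_apply, hfb, map_smul, map_smul,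
      cls_smul hm S.deg hb, hw']
  by_cases hinv : ∃ κ : F, κ ^ 3 = 1 ∧
      ∀ g ∈ M, ∀ v : V3 F, cls F (Φ.symm v) = κ → cls F (Φ.symm (app g v)) = κ
  · exact Or.inr hinv
  left
  push Not at hinv
  have hout : ∀ κ : F, κ ^ 3 = 1 → ∃ l, l ^ 3 = 1 ∧ l ≠ κ ∧ R κ l := by
    intro κ hκ
    obtain ⟨g, hg, v, hv, hne'⟩ := hinv κ hκ
    refine ⟨_, cls_cube hm ?_, hne', g, hg, v, hv, rfl⟩
    intro h0
    exact hne hκ hv (by rw [(app g).map_eq_zero_iff.1 (Φ.symm.map_eq_zero_iff.1 h0), map_zero])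
  obtain ⟨a, ha, ha', hRa⟩ := hout 1 (one_pow 3)
  obtain ⟨b, hb, hb', hRb⟩ := hout ω h3
  obtain ⟨c, hc, hc', hRc⟩ := hout _ h32
  have hboth : R 1 ω ∧ R 1 (ω ^ 2) := by
    rcases hall a ha with rfl | rfl | rfl
    · exact absurd rfl ha'
    · refine ⟨hRa, ?_⟩
      rcases hall c hc with rfl | rfl | rfl
      · exact hsymm hRc
      · exact htrans h3 hRa (hsymm hRc)
      · exact absurd rfl hc'
    · refine ⟨?_, hRa⟩
      rcases hall b hb with rfl | rfl | rfl
      · exact hsymm hRb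
      · exact absurd rfl hb'
      · exact htrans h32 hRa (hsymm hRb)
  have hR1 : ∀ k : F, k ^ 3 = 1 → R 1 k := fun k hk => by
    rcases hall k hk with rfl | rfl | rfl
    · exact htrans h3 hboth.1 (hsymm hboth.1)
    · exact hboth.1
    · exact hboth.2
  intro v w hv hw
  have hv' : Φ.symm v ≠ 0 := fun h => hv (Φ.symm.map_eq_zero_iff.1 h)
  have hw' : Φ.symm w ≠ 0 := fun h => hw (Φ.symm.map_eq_zero_iff.1 h)
  obtain ⟨g, hg, x, hx, hgx⟩ :=
    htrans (one_pow 3) (hsymm (hR1 _ (cls_cube hm hv'))) (hR1 _ (cls_cube hm hw'))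
  obtain ⟨f, hf, b, hb, hfb⟩ := S.rel_of_cls hm hv' (hne (cls_cube hm hv') hx) hx.symm
  obtain ⟨f', hf', b', hb', hfb'⟩ := S.rel_of_cls hm (hne (cls_cube hm hw') hgx) hw' hgx
  rw [Φ.apply_symm_apply, Φ.apply_symm_apply] at hfb hfb'
  exact ⟨f' * g * f, mul_mem (mul_mem hf' hg) hf, b * b', by
    rw [map_mul, map_mul, LinearEquiv.mul_apply, LinearEquiv.mul_apply, hfb, map_smul, map_smul,
      hfb', smul_smul]⟩

lemma cen_of_cls {x y : L} (h : Cen M (Φ x)) (hy : y ≠ 0) (he : cls F x = cls F y) :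
    Cen M (Φ y) := by
  obtain ⟨g, hg, b, hb, hgb⟩ := S.rel_of_cls hm (fun h0 => h.1 (by rw [h0, map_zero])) hy he
  have := (h.conj hg).smul (inv_ne_zero hb)
  rwa [hgb, smul_smul, inv_mul_cancel₀ hb, one_smul] at this

lemma axis_of_cls {a b : L} (h : Axis M (dd Φ a)) (hb : b ≠ 0) (he : cls F a = cls F b) :
    Axis M (dd Φ b) := by
  have ha : a ≠ 0 := fun h0 => h.1 (LinearMap.ext fun x => by simp [h0, dd])
  obtain ⟨u, c, hu, hc, hac⟩ := exists_split hm S.deg ha hb he
  obtain ⟨g, hg, hgy⟩ := S.mulg_mem u hu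
  have hu0 : u ≠ 0 := fun h0 => ha (by rw [hac, h0, zero_mul])
  have h1 := h.conj hg
  rw [dd_conj hu0 hgy, hac, mul_div_cancel_left₀ _ hu0, dd_smul] at h1
  have := h1.smul (inv_ne_zero hc)
  rwa [smul_smul, inv_mul_cancel₀ hc, one_smul] at this

/-- The translations of an axis divide the trace count of an invariant class. -/
lemma card_egrp_dvd {κ : F} (hinv : ∀ g ∈ M, ∀ v : V3 F,
    cls F (Φ.symm v) = κ → cls F (Φ.symm (app g v)) = κ) {a : L} (ha : a ≠ 0) :
    Nat.card (egrp M (dd Φ a)) ∣ An L (cls F a * κ) := by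
  classical
  set T := univ.filter (fun v : V3 F => cls F (Φ.symm v) = κ ∧ dd Φ a v = 1) with hT
  have hcard : T.card = An L (cls F a * κ) := by
    refine card_nbij' (fun v => a * Φ.symm v) (fun y => Φ (y / a)) ?_ ?_ ?_ ?_
    · intro v hv
      simp only [hT, mem_coe, mem_filter, mem_univ, true_and, mem_clsSet] at hv ⊢
      refine ⟨by rw [cls_mul, hv.1], ?_⟩
      rw [← hv.2]
      conv_rhs => rw [← Φ.apply_symm_apply v, dd_apply]
    · intro y hy
      simp only [hT, mem_coe, mem_filter, mem_univ, true_and, mem_clsSet] at hy ⊢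
      refine ⟨?_, by rw [dd_apply, mul_div_cancel₀ _ ha]; exact hy.2⟩
      rw [Φ.symm_apply_apply]
      refine mul_left_cancel₀ (a := cls F a) (fun h0 => ?_) ?_
      · have := cls_cube hm ha
        rw [h0, zero_pow three_ne_zero] at this
        exact zero_ne_one this
      · rw [← cls_mul, mul_div_cancel₀ _ ha, hy.1]
    · intro v _
      simp only [mul_div_cancel_left₀ _ ha, LinearEquiv.apply_symm_apply]
    · intro y _
      simp only [LinearEquiv.symm_apply_apply, mul_div_cancel₀ _ ha]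
  rw [← hcard]
  refine card_dvd_of_invariant _ T fun v hv x hx => ?_
  simp only [hT, mem_filter, mem_univ, true_and] at hx ⊢
  have htv : app (tv v (dd Φ a)) x = x + v := by rw [tv_apply hv.1, hx.2, one_smul]
  exact ⟨htv ▸ hinv _ hv.2 x hx.1, by rw [map_add, hx.2, hv.1, add_zero]⟩

/-- A centre on an axis gives a translation. -/
lemma exists_mem_egrp {v : V3 F} {ψ : D3 F} (hv : Cen M v) (hψ : Axis M ψ) (h : ψ v = 0) :
    ∃ a : F, a ≠ 0 ∧ a • v ∈ egrp M ψ := by
  obtain ⟨a, ha, hmem⟩ := flag hv hψ h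
  exact ⟨a, ha, by rw [map_smul, h, smul_zero], by rwa [← tv_smul h] at hmem⟩

/-- The centres of given classes on an axis. -/
lemma centres_le {p : ℕ} [CharP F p] (hp : p.Prime) {a : L} (ha : a ≠ 0)
    (hax : Axis M (dd Φ a)) (C : Finset F) (hC : ∀ δ ∈ C, δ ^ 3 = 1 ∧
      ∃ x : L, cls F x = δ ∧ Cen M (Φ x)) :
    (p - 1) * ∑ δ ∈ C, Zn L (cls F a * δ) ≤
      (Fintype.card F - 1) * (Nat.card (egrp M (dd Φ a)) - 1) := by
  classical
  set T := univ.filter (fun v : V3 F => cls F (Φ.symm v) ∈ C ∧ dd Φ a v = 0) with hT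
  have hcard : T.card = ∑ δ ∈ C, Zn L (cls F a * δ) := by
    rw [card_eq_sum_card_fiberwise (f := fun v => cls F (Φ.symm v)) (t := C)]
    · refine sum_congr rfl fun δ hδ => ?_
      refine card_nbij' (fun v => a * Φ.symm v) (fun y => Φ (y / a)) ?_ ?_ ?_ ?_
      · intro v hv
        simp only [hT, mem_coe, mem_filter, mem_univ, true_and, mem_clsSet] at hv ⊢
        refine ⟨by rw [cls_mul, hv.2], ?_⟩
        rw [← hv.1.2]
        conv_rhs => rw [← Φ.apply_symm_apply v, dd_apply]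
      · intro y hy
        simp only [hT, mem_coe, mem_filter, mem_univ, true_and, mem_clsSet,
          LinearEquiv.symm_apply_apply] at hy ⊢
        have h1 : cls F (y / a) = δ := by
          refine mul_left_cancel₀ (a := cls F a) (fun h0 => ?_) ?_
          · have := cls_cube hm ha
            rw [h0, zero_pow three_ne_zero] at this
            exact zero_ne_one this
          · rw [← cls_mul, mul_div_cancel₀ _ ha, hy.1]
        exact ⟨⟨h1 ▸ hδ, by rw [dd_apply, mul_div_cancel₀ _ ha]; exact hy.2⟩, h1⟩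
      · intro v _
        simp only [mul_div_cancel_left₀ _ ha, LinearEquiv.apply_symm_apply]
      · intro y _
        simp only [LinearEquiv.symm_apply_apply, mul_div_cancel₀ _ ha]
    · intro v hv
      simp only [hT, mem_coe, mem_filter] at hv
      exact hv.2.1
  rw [← hcard]
  refine directions_le hp _ T fun v hv => ?_
  simp only [hT, mem_filter, mem_univ, true_and] at hv
  obtain ⟨hδ, x, hxδ, hx⟩ := hC _ hv.1
  have hv0 : Φ.symm v ≠ 0 := ne_zero_of_cls hm hδ rfl
  have hc : Cen M v := by simpa using S.cen_of_cls hm hx hv0 hxδ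
  exact ⟨hc.1, S.exists_mem_egrp hm hc hax hv.2⟩

end Setup

end Cfsg.Agent.SL3Max.Singer
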