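/-
Three directions filled by an additive group, over sixteen elements.
Main results: `not_four`, `three_dirs`.
-/
import Cfsg.Agent.Lib.SL3Max.Singer.Trans

set_option autoImplicit false
set_option linter.unusedSectionVars false

namespace Cfsg.Agent.SL3Max.Singer

open Finset

variable {F : Type*} [Field F] [Fintype F] {W : Type*} [AddCommGroup W] [Module F W]
  (h16 : Fintype.card F = 16) {E : AddSubgroup W} {C : Finset W} (hcard : C.card = 45)
  (hC : ∀ v ∈ C, v ≠ 0 ∧ ∃ a : F, a ≠ 0 ∧ a • v ∈ E)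
  (hE : ∀ w ∈ E, w ≠ 0 → ∀ b : F, b ≠ 0 → b • w ∈ C)
include h16 hcard hC hE

omit hC in
/-- No four elements have four directions. -/
lemma not_four (w : Fin 4 → W) (hw : ∀ i, w i ∈ E ∧ w i ≠ 0)
    (hind : ∀ i j, i < j → ∀ b : F, w j ≠ b • w i) : False := by
  classical
  let f : Fˣ × Fin 4 → C := fun z => ⟨(z.1 : F) • w z.2, hE _ (hw _).1 (hw _).2 _ z.1.ne_zero⟩
  have hf : Function.Injective f := by
    rintro ⟨a, i⟩ ⟨b, j⟩ h
    have h1 : (a : F) • w i = (b : F) • w j := congrArg Subtype.val h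
    rcases lt_trichotomy i j with hlt | rfl | hlt
    · exact absurd (by rw [mul_smul, h1, smul_smul, inv_mul_cancel₀ b.ne_zero, one_smul])
        (hind i j hlt ((b : F)⁻¹ * a))
    · rw [Units.ext (smul_left_injective F (hw i).2 h1)]
    · exact absurd (by rw [mul_smul, ← h1, smul_smul, inv_mul_cancel₀ a.ne_zero, one_smul])
        (hind j i hlt ((a : F)⁻¹ * b))
  have := Fintype.card_le_of_injective f hf
  rw [Fintype.card_prod, Fintype.card_units, Fintype.card_coe, Fintype.card_fin, h16, hcard] at this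
  omega

/-- Distinct elements have distinct directions. -/
lemma dir_injective {d d' : W} (hd : d ∈ E) (hd' : d' ∈ E) (hd0 : d ≠ 0) (hd0' : d' ≠ 0) {b : F}
    (h : d' = b • d) : d' = d := by
  classical
  by_contra hne
  have hb0 : b ≠ 0 := fun h0 => hd0' (by rw [h, h0, zero_smul])
  have hb1 : b ≠ 1 := fun h1 => hne (by rw [h, h1, one_smul])
  obtain ⟨v, hv, hvd⟩ : ∃ v ∈ C, ∀ a : F, v ≠ a • d := by
    by_contra! hall
    choose a ha using hall
    have hinj : Function.Injective (fun v : C => a v v.2) := fun v w hvw => Subtype.ext (by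
      rw [ha v v.2, ha w w.2, show a v v.2 = a w w.2 from hvw])
    have := Fintype.card_le_of_injective _ hinj
    rw [Fintype.card_coe, hcard, h16] at this
    omega
  obtain ⟨hv0, a, ha, hw⟩ := hC v hv
  set w := a • v with hwdef
  have hwd : ∀ c : F, w ≠ c • d := fun c hc => hvd (a⁻¹ * c) (by
    rw [mul_smul, ← hc, hwdef, smul_smul, inv_mul_cancel₀ ha, one_smul])
  refine not_four h16 hcard hE ![d, w, w + d, w + b • d] ?_ ?_
  · intro i
    fin_cases i
    · exact ⟨hd, hd0⟩
    · exact ⟨hw, by simpa [hwdef] using smul_ne_zero ha hv0⟩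
    · exact ⟨E.add_mem hw hd, fun h0 => hwd (-1) (by
        rw [neg_one_smul, ← eq_neg_of_add_eq_zero_left h0])⟩
    · exact ⟨E.add_mem hw (h ▸ hd'), fun h0 => hwd (-b) (by
        rw [neg_smul, ← eq_neg_of_add_eq_zero_left h0])⟩
  · intro i j hij c hc
    have key : ∀ k l : F, k • w = l • d → k = 0 ∧ l = 0 := by
      intro k l hkl
      have hk : k = 0 := by
        by_contra hk
        exact hwd (k⁻¹ * l) (by rw [mul_smul, ← hkl, smul_smul, inv_mul_cancel₀ hk, one_smul])
      subst hk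
      rw [zero_smul, eq_comm, smul_eq_zero] at hkl
      exact ⟨rfl, hkl.resolve_right hd0⟩
    fin_cases i <;> fin_cases j <;> simp at hij hc
    · exact hwd c hc
    · have := key 1 (c - 1) (by rw [one_smul, sub_smul, one_smul, ← hc, add_sub_cancel_right])
      exact one_ne_zero this.1
    · have := key 1 (c - b) (by rw [one_smul, sub_smul, ← hc, add_sub_cancel_right])
      exact one_ne_zero this.1
    · obtain ⟨-, h2⟩ := key (c - 1) 1 (by rw [one_smul, sub_smul, one_smul, ← hc, add_sub_cancel_left])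
      exact one_ne_zero h2
    · obtain ⟨-, h2⟩ := key (c - 1) b (by rw [sub_smul, one_smul, ← hc, add_sub_cancel_left])
      exact hb0 h2
    · obtain ⟨h1, h2⟩ := key (1 - c) (c - b) (by
        rw [sub_smul, sub_smul, one_smul, sub_eq_sub_iff_add_eq_add, hc, add_comm])
      exact hb1 (by linear_combination -h1 - h2)

/-- The group is a four-group. -/
theorem three_dirs : ∃ w1 w2, w1 ∈ E ∧ w2 ∈ E ∧ w1 ≠ 0 ∧ (∀ b : F, w2 ≠ b • w1) ∧
    ∀ w ∈ E, w = 0 ∨ w = w1 ∨ w = w2 ∨ w = w1 + w2 := by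
  classical
  obtain ⟨v, hv⟩ : C.Nonempty := card_pos.1 (by omega)
  obtain ⟨hv0, a, ha, hw1⟩ := hC v hv
  set w1 := a • v
  have hw10 : w1 ≠ 0 := smul_ne_zero ha hv0
  obtain ⟨v', hv', hvd⟩ : ∃ v' ∈ C, ∀ b : F, v' ≠ b • w1 := by
    by_contra! hall
    choose b hb using hall
    have hinj : Function.Injective (fun v : C => b v v.2) := fun x y hxy => Subtype.ext (by
      rw [hb x x.2, hb y y.2, show b x x.2 = b y y.2 from hxy])
    have := Fintype.card_le_of_injective _ hinj
    rw [Fintype.card_coe, hcard, h16] at this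
    omega
  obtain ⟨hv0', a', ha', hw2⟩ := hC v' hv'
  set w2 := a' • v' with hw2def
  have hw20 : w2 ≠ 0 := smul_ne_zero ha' hv0'
  have hind : ∀ b : F, w2 ≠ b • w1 := fun b hb => hvd (a'⁻¹ * b) (by
    rw [mul_smul, ← hb, hw2def, smul_smul, inv_mul_cancel₀ ha', one_smul])
  have hw30 : w1 + w2 ≠ 0 := fun h => hind (-1) (by
    rw [neg_one_smul, ← eq_neg_of_add_eq_zero_right h])
  refine ⟨w1, w2, hw1, hw2, hw10, hind, fun w hw => ?_⟩
  by_contra! hne
  obtain ⟨h0, h1, h2, h3⟩ := hne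
  refine not_four h16 hcard hE ![w1, w2, w1 + w2, w] ?_ ?_
  · intro i
    fin_cases i
    exacts [⟨hw1, hw10⟩, ⟨hw2, hw20⟩, ⟨E.add_mem hw1 hw2, hw30⟩, ⟨hw, h0⟩]
  · have hdir := fun {d d' : W} (hd : d ∈ E) (hd' : d' ∈ E) (hd0 : d ≠ 0) (hd0' : d' ≠ 0)
      (hne : d' ≠ d) (b : F) (hb : d' = b • d) => hne (dir_injective h16 hcard hC hE hd hd' hd0 hd0' hb)
    have h12 : w2 ≠ w1 := fun h => hind 1 (by rw [one_smul, h])
    intro i j hij
    fin_cases i <;> fin_cases j <;> simp at hij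
    exacts [hdir hw1 hw2 hw10 hw20 h12,
      hdir hw1 (E.add_mem hw1 hw2) hw10 hw30 (fun h => hw20 (by simpa using h)),
      hdir hw1 hw hw10 h0 h1,
      hdir hw2 (E.add_mem hw1 hw2) hw20 hw30 (fun h => hw10 (by simpa using h)),
      hdir hw2 hw hw20 h0 h2,
      hdir (E.add_mem hw1 hw2) hw hw30 h0 h3]

end Cfsg.Agent.SL3Max.Singer
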