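/-
Semilinear maps, the multiplications of norm one and their elements of prime order.
Main results: `semi_of_gen`, `mulg_of_commute`, `Setup.exists_prime_elem`.
-/
import Cfsg.Agent.Lib.SL3Max.Singer.Basic

set_option autoImplicit false
set_option linter.unusedSectionVars false

namespace Cfsg.Agent.SL3Max.Singer

open Cfsg.Agent.Transvect Module

variable {F : Type*} [Field F] [Fintype F] {L : Type*} [Field L] [Finite L] [Algebra F L]
  {Φ : L ≃ₗ[F] V3 F}

/-- `g` is the multiplication by `u`. -/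
def IsMulg (Φ : L ≃ₗ[F] V3 F) (g : GL (Fin 3) F) (u : L) : Prop := ∀ y, app g (Φ y) = Φ (u * y)

/-- `g` is semilinear over `L`. -/
def Semi (Φ : L ≃ₗ[F] V3 F) (g : GL (Fin 3) F) : Prop :=
  ∀ k : L, ∃ k' : L, ∀ y, Φ.symm (app g (Φ (k * y))) = k' * Φ.symm (app g (Φ y))

lemma IsMulg.unique {g h : GL (Fin 3) F} {u : L} (hg : IsMulg Φ g u) (hh : IsMulg Φ h u) : g = h :=
  gl_ext fun x => by
    obtain ⟨y, rfl⟩ := Φ.surjective x
    rw [hg, hh]

lemma IsMulg.mul {g h : GL (Fin 3) F} {u v : L} (hg : IsMulg Φ g u) (hh : IsMulg Φ h v) :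
    IsMulg Φ (g * h) (u * v) := fun y => by
  rw [map_mul, LinearEquiv.mul_apply, hh, hg, mul_assoc]

lemma isMulg_one : IsMulg Φ (1 : GL (Fin 3) F) (1 : L) := fun y => by
  rw [map_one, LinearEquiv.coe_one, id, one_mul]

lemma IsMulg.pow {g : GL (Fin 3) F} {u : L} (hg : IsMulg Φ g u) :
    ∀ n : ℕ, IsMulg Φ (g ^ n) (u ^ n)
  | 0 => by rw [pow_zero, pow_zero]; exact isMulg_one
  | n + 1 => by rw [pow_succ, pow_succ]; exact (IsMulg.pow hg n).mul hg

lemma IsMulg.eq {g : GL (Fin 3) F} {u v : L} (hg : IsMulg Φ g u) (hg' : IsMulg Φ g v) : u = v := by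
  have := (hg 1).symm.trans (hg' 1)
  rwa [mul_one, mul_one, Φ.injective.eq_iff] at this

lemma adjoin_eq_top (hdeg : finrank F L = 3) {u : L} (hu : u ∉ Set.range (algebraMap F L))
    (A : Subalgebra F L) (huA : u ∈ A) : A = ⊤ := by
  haveI := Subalgebra.isSimpleOrder_of_finrank_prime F L (hdeg ▸ Nat.prime_three)
  refine (eq_bot_or_eq_top A).resolve_left fun h => hu ?_
  rw [h] at huA
  exact Algebra.mem_bot.1 huA

/-- It suffices to send one generator to a multiplication. -/
lemma semi_of_gen (hdeg : finrank F L = 3) {g : GL (Fin 3) F} {u u' : L}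
    (hu : u ∉ Set.range (algebraMap F L))
    (h : ∀ y, Φ.symm (app g (Φ (u * y))) = u' * Φ.symm (app g (Φ y))) : Semi Φ g := by
  let A : Subalgebra F L :=
    { carrier := {k | ∃ k' : L, ∀ y, Φ.symm (app g (Φ (k * y))) = k' * Φ.symm (app g (Φ y))}
      mul_mem' := fun {a b} ⟨a', ha⟩ ⟨b', hb⟩ => ⟨a' * b', fun y => by
        rw [mul_assoc, ha, hb, mul_assoc]⟩
      add_mem' := fun {a b} ⟨a', ha⟩ ⟨b', hb⟩ => ⟨a' + b', fun y => by
        rw [add_mul, map_add, map_add, map_add, ha, hb, add_mul]⟩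
      algebraMap_mem' := fun c => ⟨algebraMap F L c, fun y => by
        rw [← Algebra.smul_def, map_smul, map_smul, map_smul, Algebra.smul_def]⟩ }
  intro k
  have : k ∈ A := by rw [adjoin_eq_top hdeg hu A ⟨u', h⟩]; trivial
  exact this

/-- What commutes with a generator is a multiplication. -/
lemma mulg_of_commute (hdeg : finrank F L = 3) {g s : GL (Fin 3) F} {u : L} (hs : IsMulg Φ s u)
    (hu : u ∉ Set.range (algebraMap F L)) (h : g * s = s * g) :
    IsMulg Φ g (Φ.symm (app g (Φ 1))) := by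
  let A : Subalgebra F L :=
    { carrier := {k | ∀ y, Φ.symm (app g (Φ (k * y))) = k * Φ.symm (app g (Φ y))}
      mul_mem' := fun {a b} ha hb y => by rw [mul_assoc, ha, hb, mul_assoc]
      add_mem' := fun {a b} ha hb y => by rw [add_mul, map_add, map_add, map_add, ha, hb, add_mul]
      algebraMap_mem' := fun c y => by
        rw [← Algebra.smul_def, map_smul, map_smul, map_smul, Algebra.smul_def] }
  have huA : u ∈ A := fun y => by
    have h1 := LinearEquiv.congr_fun (congrArg app h) (Φ y)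
    rw [map_mul, map_mul, LinearEquiv.mul_apply, LinearEquiv.mul_apply, hs] at h1
    rw [h1]
    conv_lhs => rw [← Φ.apply_symm_apply (app g (Φ y)), hs]
    rw [Φ.symm_apply_apply]
  intro y
  have hy : y ∈ A := by rw [adjoin_eq_top hdeg hu A huA]; trivial
  have h1 := hy 1
  rw [mul_one] at h1
  apply Φ.symm.injective
  rw [h1, Φ.symm_apply_apply, mul_comm]

/-- An element of the normalisation of a multiplication is semilinear. -/
lemma semi_of_conj (hdeg : finrank F L = 3) {g s : GL (Fin 3) F} {u u' : L} (hs : IsMulg Φ s u)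
    (hu : u ∉ Set.range (algebraMap F L)) (h : IsMulg Φ (g * s * g⁻¹) u') : Semi Φ g := by
  refine semi_of_gen hdeg hu (u' := u') fun y => ?_
  have h1 := h (Φ.symm (app g (Φ y)))
  rw [Φ.apply_symm_apply, map_mul, map_mul, LinearEquiv.mul_apply, LinearEquiv.mul_apply,
    app_inv_app, hs] at h1
  rw [h1, Φ.symm_apply_apply]

namespace Setup

variable {M : Subgroup (GL (Fin 3) F)}

/-- An element of prime order of the torus, outside the scalars. -/
lemma exists_prime_elem (S : Setup Φ M) {r : ℕ} (hr : r.Prime)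
    (hdvd : r ∣ Fintype.card F ^ 2 + Fintype.card F + 1) (hndvd : ¬ r ∣ Fintype.card F - 1) :
    ∃ s ∈ M, ∃ u : L, IsMulg Φ s u ∧ orderOf s = r ∧ u ∉ Set.range (algebraMap F L) ∧
      u ^ r = 1 ∧ Algebra.norm F u = 1 := by
  haveI : Fact r.Prime := ⟨hr⟩
  haveI : Module.Finite F L := Module.Finite.of_finite
  obtain ⟨x, hx⟩ := exists_prime_orderOf_dvd_card' (G := Lˣ) r (by
    rw [Nat.card_units, Module.natCard_eq_pow_finrank (K := F) (V := L), S.deg,
      Nat.card_eq_fintype_card]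
    have h1 : (Fintype.card F ^ 2 + Fintype.card F + 1) * (Fintype.card F - 1) =
        Fintype.card F ^ 3 - 1 := by
      obtain ⟨k, hk⟩ : ∃ k, Fintype.card F = k + 1 := ⟨_, (Nat.succ_pred_eq_of_pos Fintype.card_pos).symm⟩
      rw [hk, Nat.add_sub_cancel]
      exact (Nat.sub_eq_of_eq_add (by ring)).symm
    exact h1 ▸ Dvd.dvd.mul_right hdvd _)
  have hone : ∀ a : F, a ^ r = 1 → a = 1 := fun a ha => by
    have ha0 : a ≠ 0 := fun h => by rw [h, zero_pow hr.ne_zero] at ha; exact zero_ne_one ha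
    rcases hr.eq_one_or_self_of_dvd _ (orderOf_dvd_of_pow_eq_one ha) with h | h
    · exact orderOf_eq_one_iff.1 h
    · exact absurd (h ▸ orderOf_dvd_of_pow_eq_one (FiniteField.pow_card_sub_one_eq_one a ha0)) hndvd
  have hxr : (x : L) ^ r = 1 := by
    rw [← Units.val_pow_eq_pow_val, ← hx, pow_orderOf_eq_one, Units.val_one]
  have hn : Algebra.norm F (x : L) = 1 := hone _ (by rw [← map_pow, hxr, map_one])
  obtain ⟨s, hs, hsu⟩ := S.mulg_mem x hn
  have hsu : IsMulg Φ s (x : L) := hsu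
  have hx1 : (x : L) ≠ 1 := fun h => by
    rw [Units.val_eq_one] at h
    rw [h, orderOf_one] at hx
    exact hr.one_lt.ne hx
  refine ⟨s, hs, x, hsu, orderOf_eq_prime ?_ ?_, ?_, hxr, hn⟩
  · exact IsMulg.unique (hxr ▸ hsu.pow r) isMulg_one
  · intro h
    exact hx1 (hsu.eq (h ▸ isMulg_one))
  · rintro ⟨a, ha⟩
    refine hx1 ?_
    have h1 : a ^ r = 1 := (algebraMap F L).injective (by rw [map_pow, ha, hxr, map_one])
    rw [← ha, hone a h1, map_one]

end Setup

end Cfsg.Agent.SL3Max.Singer
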