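/-
An overgroup of odd order of the normaliser of a Singer cycle is semilinear.
Main results: `Setup.odd_semi`.
-/
import Cfsg.Agent.Lib.SL3Max.Singer.Semi
import Cfsg.Agent.Lib.PrimeDim.Trichotomy
import Cfsg.Agent.Lib.OddOrderTheorem.Basic

set_option autoImplicit false
set_option linter.unusedSectionVars false

namespace Cfsg.Agent.SL3Max.Singer

open Cfsg.Agent.Transvect Module Matrix

lemma exists_large_prime (q : ℕ) (hq : 2 ≤ q) :
    ∃ r, r.Prime ∧ 5 ≤ r ∧ r ∣ q ^ 2 + q + 1 ∧ ¬ r ∣ q - 1 := by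
  have h9 : ¬ 9 ∣ q ^ 2 + q + 1 := fun h => by
    have key : ∀ a : ZMod 9, a ^ 2 + a + 1 ≠ 0 := by decide
    refine key q ?_
    have := (CharP.cast_eq_zero_iff (ZMod 9) 9 _).2 h
    push_cast at this
    exact this
  obtain ⟨r, hr, hdvd, hr3⟩ : ∃ r, r.Prime ∧ r ∣ q ^ 2 + q + 1 ∧ r ≠ 3 := by
    by_contra! hall
    by_cases h3 : 3 ∣ q ^ 2 + q + 1
    · obtain ⟨t, ht⟩ := h3
      obtain ⟨r, hr, hrt⟩ := Nat.exists_prime_and_dvd (n := t) (by nlinarith)
      obtain rfl := hall r hr (ht ▸ Dvd.dvd.mul_left hrt 3)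
      exact h9 (ht ▸ Nat.mul_dvd_mul_left 3 hrt)
    · obtain ⟨r, hr, hrn⟩ := Nat.exists_prime_and_dvd (n := q ^ 2 + q + 1) (by nlinarith)
      exact h3 ((hall r hr hrn) ▸ hrn)
  have hr2 : r ≠ 2 := fun h => by
    rw [h] at hdvd
    have : 2 ∣ q ^ 2 + q := by
      rw [sq, ← Nat.mul_succ]; exact (Nat.even_mul_succ_self q).two_dvd
    omega
  refine ⟨r, hr, ?_, hdvd, fun h => hr3 ?_⟩
  · have := hr.two_le
    by_contra! hlt
    interval_cases r <;> simp_all (config := {decide := true})
  · obtain ⟨k, rfl⟩ : ∃ k, q = k + 1 := ⟨q - 1, by omega⟩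
    rw [Nat.add_sub_cancel] at h
    rw [show (k + 1) ^ 2 + (k + 1) + 1 = k * (k + 3) + 3 by ring] at hdvd
    exact (Nat.prime_dvd_prime_iff_eq hr Nat.prime_three).1
      ((Nat.dvd_add_right (Dvd.dvd.mul_right h _)).1 hdvd)

variable {F : Type*} [Field F] [Fintype F] {L : Type*} [Field L] [Finite L] [Algebra F L]
  {Φ : L ≃ₗ[F] V3 F} {M : Subgroup (GL (Fin 3) F)}

lemma scalar_isMulg {g : GL (Fin 3) F} {c : F} (h : (g : Matrix (Fin 3) (Fin 3) F) = c • 1) :
    IsMulg Φ g (algebraMap F L c) := fun y => by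
  rw [app_apply, h, Matrix.smul_mulVec, Matrix.one_mulVec, ← Algebra.smul_def, map_smul]

/-- A subgroup of odd order is semilinear. -/
theorem Setup.odd_semi (S : Setup Φ M) (hodd : Odd (Nat.card M)) : ∀ g ∈ M, Semi Φ g := by
  classical
  haveI : Finite (Matrix (Fin 3) (Fin 3) F) := inferInstanceAs (Finite (Fin 3 → Fin 3 → F))
  have hcard3 : Fintype.card (Fin 3) = 3 := Fintype.card_fin 3
  have h3p : (Fintype.card (Fin 3)).Prime := hcard3 ▸ Nat.prime_three
  obtain ⟨r, hr, hr5, hrd, hrn⟩ := exists_large_prime _ (Fintype.one_lt_card (α := F))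
  haveI : Fact r.Prime := ⟨hr⟩
  obtain ⟨s, hsM, u, hsu, hord, huF, hur, -⟩ := S.exists_prime_elem hr hrd hrn
  have hirr : Geo.ActsIrreducibly (Geo.matrixSet M) := by
    intro W hW
    by_contra hne
    push Not at hne
    obtain ⟨v, hv, hv0⟩ := Submodule.exists_mem_ne_zero_of_ne_bot hne.1
    refine hne.2 (eq_top_iff.2 fun w _ => ?_)
    have hmaps := (PrimeDim.mapsTo_iff_mulVec _ W).1 (hW _ (PrimeDim.mem_matrixSet hsM))
    let A : Subalgebra F L :=
      { carrier := {k | ∀ v ∈ W, Φ (k * Φ.symm v) ∈ W}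
        mul_mem' := fun {a b} ha hb v hv => by
          have := ha _ (hb v hv)
          rwa [Φ.symm_apply_apply, ← mul_assoc] at this
        add_mem' := fun {a b} ha hb v hv => by
          rw [add_mul, map_add]; exact W.add_mem (ha v hv) (hb v hv)
        algebraMap_mem' := fun c v hv => by
          rw [← Algebra.smul_def, map_smul, Φ.apply_symm_apply]; exact W.smul_mem c hv }
    have huA : u ∈ A := fun v hv => by
      rw [← hsu, Φ.apply_symm_apply, app_apply]; exact hmaps v hv
    have hall : Φ.symm w / Φ.symm v ∈ A := by rw [adjoin_eq_top S.deg huF A huA]; trivial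
    have := hall v hv
    rwa [div_mul_cancel₀ _ (fun h => hv0 (Φ.symm.map_eq_zero_iff.1 h)), Φ.apply_symm_apply] at this
  -- powers of `s` that fix something
  have hgen : ∀ n : ℕ, 0 < n → n < r → s ∈ Subgroup.zpowers (s ^ n) := by
    intro n hn hnr
    obtain ⟨k, hk⟩ := exists_pow_eq_self_of_coprime (x := s) (n := n)
      (hord ▸ Nat.Coprime.symm (hr.coprime_iff_not_dvd.2 (Nat.not_dvd_of_pos_of_lt hn hnr)))
    exact ⟨k, by simpa using hk⟩
  have hcomm_semi : ∀ {X : Subalgebra F (Matrix (Fin 3) (Fin 3) F)},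
      Geo.IsFieldSubalgebra 3 X → M ≤ Geo.subalgebraNormalizer X → ∀ g ∈ M, Semi Φ g := by
    intro X hX hMX g hg
    have hA : IsField X := ⟨exists_pair_ne _, fun x y => Subtype.ext (hX.comm _ x.2 _ y.2),
      fun {x} hx => by
        obtain ⟨y, hy, h⟩ := hX.inv _ x.2 (fun h => hx (Subtype.ext h))
        exact ⟨⟨y, hy⟩, Subtype.ext h⟩⟩
    letI : Field X := hA.toField
    haveI : Finite X := Subtype.finite
    haveI : Module.Finite F X := Module.Finite.of_finite
    -- conjugation by the powers of `s`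
    have hpowX : ∀ (n : ℕ) (k : X), PrimeDim.cj (s ^ n) (k : Matrix (Fin 3) (Fin 3) F) ∈ X :=
      fun n k => ((hMX (pow_mem hsM n)) k).1 k.2
    let c : ℕ → (X →ₐ[F] X) := fun n =>
      { toFun := fun k => ⟨_, hpowX n k⟩
        map_one' := Subtype.ext (by simp [PrimeDim.cj_apply])
        map_mul' := fun a b => Subtype.ext (by
          simp only [PrimeDim.cj_apply, MulMemClass.coe_mul, mul_assoc]
          rw [← mul_assoc ((s ^ n)⁻¹ : GL (Fin 3) F).val (s ^ n : GL (Fin 3) F).val, Units.inv_mul,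
            one_mul])
        map_zero' := Subtype.ext (by simp [PrimeDim.cj_apply])
        map_add' := fun a b => Subtype.ext (by simp [PrimeDim.cj_apply, mul_add, add_mul])
        commutes' := fun a => Subtype.ext (by
          simp [PrimeDim.cj_apply, Algebra.algebraMap_eq_smul_one]) }
    obtain ⟨i, j, hij, hcij⟩ : ∃ i j : Fin 4, i < j ∧ c i = c j := by
      have hnot : ¬ Function.Injective (fun i : Fin 4 => c i) := fun h => by
        have h1 := Fintype.card_le_of_injective _ h
        have h2 : Fintype.card (X →ₐ[F] X) ≤ 3 := by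
          rw [← Nat.card_eq_fintype_card]
          exact (card_algHom_le_finrank F X X).trans hX.finrank_eq.le
        rw [Fintype.card_fin] at h1
        omega
      rw [Function.not_injective_iff] at hnot
      obtain ⟨a, b, hab, hne⟩ := hnot
      rcases lt_or_gt_of_ne hne with h | h
      exacts [⟨a, b, h, hab⟩, ⟨b, a, h, hab.symm⟩]
    have hn : ∀ k : X, s * 1 = s → PrimeDim.cj (s ^ ((j : ℕ) - i)) (k : Matrix (Fin 3) (Fin 3) F) = k := by
      intro k _
      have h1 : PrimeDim.cj (s ^ (i : ℕ)) (k : Matrix (Fin 3) (Fin 3) F) =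
          PrimeDim.cj (s ^ (j : ℕ)) (k : Matrix (Fin 3) (Fin 3) F) :=
        congrArg Subtype.val (DFunLike.congr_fun hcij k)
      have h2 := congrArg (PrimeDim.cj (s ^ (i : ℕ))⁻¹) h1
      rw [PrimeDim.cj_inv_cj, PrimeDim.cj_cj, show (j : ℕ) = i + ((j : ℕ) - i) by omega, pow_add,
        inv_mul_cancel_left] at h2
      exact h2.symm
    have hlt : ((j : ℕ) - i) < r := by have := j.2; omega
    have hpos : 0 < ((j : ℕ) - i) := by omega
    have hsk : ∀ k : X, (s : Matrix (Fin 3) (Fin 3) F) * k = k * s := by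
      intro k
      let St : Subgroup (GL (Fin 3) F) :=
        { carrier := {g | PrimeDim.cj g (k : Matrix (Fin 3) (Fin 3) F) = k}
          one_mem' := by simp [PrimeDim.cj_apply]
          mul_mem' := fun {a b} (ha : PrimeDim.cj a _ = _) (hb : PrimeDim.cj b _ = _) => by
            show PrimeDim.cj (a * b) _ = _
            rw [← PrimeDim.cj_cj, hb, ha]
          inv_mem' := fun {a} (ha : PrimeDim.cj a _ = _) => by
            show PrimeDim.cj a⁻¹ _ = _
            conv_lhs => rw [← ha, PrimeDim.cj_inv_cj] }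
      have hs : PrimeDim.cj s (k : Matrix (Fin 3) (Fin 3) F) = k :=
        (Subgroup.zpowers_le.2 (show s ^ ((j : ℕ) - i) ∈ St from hn k (mul_one s))) (hgen _ hpos hlt)
      exact (PrimeDim.cj_eq_self_iff _ _).1 hs
    -- a generator of the field
    obtain ⟨k0, hk0, hk0F⟩ : ∃ k0 : GL (Fin 3) F, (k0 : Matrix (Fin 3) (Fin 3) F) ∈ X ∧
        ∀ c : F, (k0 : Matrix (Fin 3) (Fin 3) F) ≠ c • 1 := by
      by_contra! hall
      have hle : (⊤ : Submodule F X) ≤ F ∙ (1 : X) := fun k _ => by
        by_cases hk : k = 0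
        · rw [hk]; exact Submodule.zero_mem _
        obtain ⟨y, hy, hky⟩ := hX.inv _ k.2 (fun h => hk (Subtype.ext h))
        obtain ⟨c, hc⟩ := hall ⟨k, y, hky, by rw [hX.comm _ hy _ k.2, hky]⟩ k.2
        exact Submodule.mem_span_singleton.2 ⟨c, Subtype.ext hc.symm⟩
      have := Submodule.finrank_mono hle
      rw [finrank_top, hX.finrank_eq, finrank_span_singleton (one_ne_zero (α := X))] at this
      omega
    have hk0s : k0 * s = s * k0 := Units.ext (hsk ⟨_, hk0⟩).symm
    have hk0m := mulg_of_commute S.deg hsu huF hk0s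
    have hk0L : Φ.symm (app k0 (Φ 1)) ∉ Set.range (algebraMap F L) := by
      rintro ⟨c, hc⟩
      refine hk0F c (Matrix.ext_of_mulVec_single fun i => ?_)
      obtain ⟨y, hy⟩ := Φ.surjective (Pi.single i 1)
      rw [← hy, Matrix.smul_mulVec, Matrix.one_mulVec, ← app_apply, hk0m, ← hc, ← Algebra.smul_def,
        map_smul]
    refine semi_of_conj S.deg hk0m hk0L (mulg_of_commute S.deg hsu huF (Units.ext ?_))
    have hmem : ((g * k0 * g⁻¹ : GL (Fin 3) F) : Matrix (Fin 3) (Fin 3) F) ∈ X := by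
      rw [Units.val_mul, Units.val_mul]; exact ((hMX hg) _).1 hk0
    exact (hsk ⟨_, hmem⟩).symm
  rcases PrimeDim.trichotomy h3p (hcard3 ▸ by decide) S.le hirr with
    ⟨N, e, -, he⟩ | ⟨N, -, -, hfield, hMN⟩ | ⟨R, hR⟩ | ⟨P, hP⟩
  · -- frame: `s` fixes a line
    exfalso
    choose π hπ using fun i => he.perm s hsM i
    have hiter : ∀ (n : ℕ) (i : Fin 3), PrimeDim.cj (s ^ n) (e i) = e (π^[n] i) := by
      intro n i
      induction n with
      | zero => simp [PrimeDim.cj_apply]
      | succ n ih => rw [pow_succ', ← PrimeDim.cj_cj, ih, hπ, Function.iterate_succ_apply']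
    obtain ⟨a, b, hab, heq⟩ : ∃ a b : Fin 4, a < b ∧ π^[(a : ℕ)] 0 = π^[(b : ℕ)] 0 := by
      obtain ⟨a, b, hne, h⟩ := Fintype.exists_ne_map_eq_of_card_lt
        (fun a : Fin 4 => π^[(a : ℕ)] 0) (by simp)
      rcases lt_or_gt_of_ne hne with h' | h'
      exacts [⟨a, b, h', h⟩, ⟨b, a, h', h.symm⟩]
    set i0 := π^[(a : ℕ)] 0
    have hfix : PrimeDim.cj (s ^ ((b : ℕ) - a)) (e i0) = e i0 := by
      conv_lhs => rw [← hiter (a : ℕ) 0, PrimeDim.cj_cj, ← pow_add,
        Nat.sub_add_cancel (le_of_lt hab), hiter, ← heq]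
    let St : Subgroup (GL (Fin 3) F) :=
      { carrier := {g | PrimeDim.cj g (e i0) = e i0}
        one_mem' := by simp [PrimeDim.cj_apply]
        mul_mem' := fun {a b} (ha : PrimeDim.cj a _ = _) (hb : PrimeDim.cj b _ = _) => by
          show PrimeDim.cj (a * b) _ = _
          rw [← PrimeDim.cj_cj, hb, ha]
        inv_mem' := fun {a} (ha : PrimeDim.cj a _ = _) => by
          show PrimeDim.cj a⁻¹ _ = _
          conv_lhs => rw [← ha, PrimeDim.cj_inv_cj] }
    have hs : PrimeDim.cj s (e i0) = e i0 :=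
      (Subgroup.zpowers_le.2 (show s ^ ((b : ℕ) - a) ∈ St from hfix))
        (hgen _ (by omega) (by have := b.2; omega))
    have hrk := he.rank_one i0
    obtain ⟨⟨v, hv⟩, hv0, hvs⟩ := finrank_eq_one_iff'.1 hrk
    have hmap := PrimeDim.stab_map hs
    have hmem : app s v ∈ LinearMap.range (Matrix.toLin' (e i0)) := by
      rw [← hmap]; exact ⟨v, hv, rfl⟩
    obtain ⟨c, hc⟩ := hvs ⟨_, hmem⟩
    have hc' : c • v = app s v := congrArg Subtype.val hc
    obtain ⟨y, rfl⟩ := Φ.surjective v
    rw [hsu, ← map_smul, Φ.injective.eq_iff, Algebra.smul_def] at hc'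
    have hy : y ≠ 0 := fun h => hv0 (Subtype.ext (by simp [h]))
    exact huF ⟨c, mul_right_cancel₀ hy hc'⟩
  · rw [hcard3] at hfield
    exact hcomm_semi hfield hMN
  · -- extraspecial
    exfalso
    have hRc : Nat.card R = 27 := by rw [hR.card_eq, hcard3]; rfl
    let act : Subgroup.zpowers s →* Equiv.Perm R :=
      { toFun := fun g =>
          { toFun := fun x => ⟨g * x * (g : GL (Fin 3) F)⁻¹,
              hR.norm g (Subgroup.zpowers_le.2 hsM g.2) x x.2⟩
            invFun := fun x => ⟨(g : GL (Fin 3) F)⁻¹ * x * g, by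
              have := hR.norm (g : GL (Fin 3) F)⁻¹ (inv_mem (Subgroup.zpowers_le.2 hsM g.2)) x x.2
              rwa [inv_inv] at this⟩
            left_inv := fun x => Subtype.ext (by simp [mul_assoc])
            right_inv := fun x => Subtype.ext (by simp [mul_assoc]) }
        map_one' := Equiv.ext fun x => Subtype.ext (by simp)
        map_mul' := fun g h => Equiv.ext fun x => Subtype.ext (by simp [mul_assoc]) }
    letI : MulAction (Subgroup.zpowers s) R := MulAction.compHom R act
    have hpg : IsPGroup r (Subgroup.zpowers s) :=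
      IsPGroup.of_card (n := 1) (by rw [Nat.card_zpowers, hord, pow_one])
    have hmod := hpg.card_modEq_card_fixedPoints R
    let Fx : Subgroup R := (Subgroup.centralizer {s}).subgroupOf R
    have hFx : Nat.card (MulAction.fixedPoints (Subgroup.zpowers s) R) = Nat.card Fx := by
      refine Nat.card_congr (Equiv.subtypeEquivRight fun x => ?_)
      rw [MulAction.mem_fixedPoints, Subgroup.mem_subgroupOf, Subgroup.mem_centralizer_singleton_iff]
      constructor
      · intro h
        have := congrArg Subtype.val (h ⟨s, Subgroup.mem_zpowers s⟩)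
        exact (mul_inv_eq_iff_eq_mul.1 this).symm
      · rintro h ⟨g, i, rfl⟩
        refine Subtype.ext ?_
        show s ^ i * (x : GL (Fin 3) F) * (s ^ i)⁻¹ = x
        rw [((Commute.zpow_left (show Commute s (x : GL (Fin 3) F) from h.symm) i).eq),
          mul_inv_cancel_right]
    obtain ⟨ζ, hζ, z, hz, hzζ⟩ := hR.root
    have hz1 : (⟨z, hz⟩ : R) ≠ 1 := fun h => by
      have h1 : z = 1 := congrArg Subtype.val h
      rw [h1, Units.val_one] at hzζ
      have := congrFun (congrFun hzζ 0) 0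
      rw [Matrix.one_apply_eq, Matrix.smul_apply, Matrix.one_apply_eq, smul_eq_mul, mul_one] at this
      exact hζ.ne_one (by rw [hcard3]; norm_num) this.symm
    have hzF : (⟨z, hz⟩ : R) ∈ Fx := by
      rw [Subgroup.mem_subgroupOf, Subgroup.mem_centralizer_singleton_iff]
      exact (PrimeDim.scalars_central (PrimeDim.smul_one_mem_scalars hzζ) s).symm
    have hFd : Nat.card Fx ∣ 27 := hRc ▸ Subgroup.card_subgroup_dvd_card Fx
    have hF1 : Nat.card Fx ≠ 1 := fun h1 => by
      haveI := (Nat.card_eq_one_iff_unique.1 h1).1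
      exact hz1 (congrArg Subtype.val (Subsingleton.elim (⟨_, hzF⟩ : Fx) 1))
    rw [hFx, hRc] at hmod
    have hF27 : Nat.card Fx = 27 := by
      obtain ⟨k, hk, hk'⟩ := (Nat.dvd_prime_pow Nat.prime_three).1 (show Nat.card Fx ∣ 3 ^ 3 from hFd)
      rw [hk'] at hF1 hmod ⊢
      interval_cases k
      · exact absurd rfl hF1
      · exfalso
        have h1 : r ∣ 27 - 3 := (Nat.modEq_iff_dvd' (by norm_num)).1 hmod.symm
        have := Nat.le_of_dvd (by norm_num) h1
        interval_cases r <;> simp_all (config := {decide := true})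
      · exfalso
        have h1 : r ∣ 27 - 9 := (Nat.modEq_iff_dvd' (by norm_num)).1 hmod.symm
        have := Nat.le_of_dvd (by norm_num) h1
        interval_cases r <;> simp_all (config := {decide := true})
      · rfl
    have htop := Subgroup.eq_top_of_card_eq Fx (hF27.trans hRc.symm)
    have hcom : ∀ x ∈ R, ∃ w : L, IsMulg Φ x w := fun x hx => by
      refine ⟨_, mulg_of_commute S.deg hsu huF ?_⟩
      have : (⟨x, hx⟩ : R) ∈ Fx := by rw [htop]; trivial
      rw [Subgroup.mem_subgroupOf, Subgroup.mem_centralizer_singleton_iff] at this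
      exact this
    have hcz : Subgroup.center R = ⊤ := eq_top_iff.2 fun x _ => Subgroup.mem_center_iff.2 fun y => by
      obtain ⟨a, ha⟩ := hcom x x.2
      obtain ⟨b, hb⟩ := hcom y y.2
      exact Subtype.ext (IsMulg.unique (hb.mul ha) (mul_comm a b ▸ ha.mul hb))
    have hc := hR.card_center
    rw [hcz, Subgroup.card_top, hRc, hcard3] at hc
    omega
  · -- core
    exfalso
    haveI hsolv : Group.IsSolvable P := OddOrderTheorem.solvable
      (hodd.of_dvd_nat (Subgroup.card_dvd_of_le hP.le))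
    haveI := hP.simple
    haveI : Group.IsSolvable (P ⧸ (Geo.scalars (Fin 3) F).subgroupOf P) :=
      Group.isSolvable_of_surjective (QuotientGroup.mk'_surjective _)
    exact hP.nonabelian ⟨⟨(IsSimpleGroup.comm_iff_isSolvable).2 inferInstance⟩⟩

end Cfsg.Agent.SL3Max.Singer
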