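/-
Over the normaliser of a Singer cycle there is no polarity.
Main results: `Setup.no_homology`.
-/
import Cfsg.Agent.Lib.SL3Max.Singer.Trans
import Cfsg.Agent.Lib.SL3Max.Involution

set_option autoImplicit false
set_option linter.unusedSectionVars false

namespace Cfsg.Agent.SL3Max.Singer

open Cfsg.Agent.Transvect Module

variable {F : Type*} [Field F] [Fintype F] {L : Type*} [Field L] [Fintype L] [Algebra F L]
  {Φ : L ≃ₗ[F] V3 F} {M : Subgroup (GL (Fin 3) F)}

/-- `c` is the centre of a homology of `M`. -/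
def Hc (M : Subgroup (GL (Fin 3) F)) (c : V3 F) : Prop :=
  ∃ φ : D3 F, φ c = 2 ∧ hml c φ ∈ M

lemma Hc.transport {c d : V3 F} (h : Hc M c) {g : GL (Fin 3) F} (hg : g ∈ M) {b : F} (hb : b ≠ 0)
    (hgc : app g c = b • d) : Hc M d := by
  obtain ⟨φ, hφ, hmem⟩ := h
  have h1 := mul_mem (mul_mem hg hmem) (inv_mem hg)
  rw [hml_conj hφ, hgc] at h1
  have h0 : (φ ∘ₗ (app g⁻¹).toLinearMap) (b • d) = 2 := by
    rw [← hgc]; exact (C5.comp_inv_app φ g c).trans hφ
  refine ⟨b • (φ ∘ₗ (app g⁻¹).toLinearMap), by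
    rw [LinearMap.smul_apply, ← map_smul]; exact h0, ?_⟩
  rw [← hml_smul h0 (inv_ne_zero hb)] at h1
  rwa [smul_smul, inv_mul_cancel₀ hb, one_smul, inv_inv] at h1

/-- No involutory homology without transvections. -/
theorem Setup.no_homology (S : Setup Φ M) (hM : ∀ c, ¬ Cen M c) (hq4 : Fintype.card F ≠ 4)
    (h2 : (2 : F) ≠ 0) {c : V3 F} {φ : D3 F} (hφ : φ c = 2) (hc : hml c φ ∈ M) : False := by
  classical
  haveI : Module.Finite F L := Module.Finite.of_finite
  set q := Fintype.card F with hq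
  have hc0 : c ≠ 0 := fun h => h2 (by rw [← hφ, h, map_zero])
  -- a centre semi-fixed by the Frobenius, and an element of trace zero and norm one
  obtain ⟨x, ω, hx, hxω, hxc, z, hz1, hz0⟩ : ∃ (x : L) (ω : F), x ≠ 0 ∧ x ^ q = ω • x ∧ Hc M (Φ x) ∧
      ∃ z : L, Algebra.norm F z = 1 ∧ Algebra.trace F L z = 0 := by
    obtain ⟨y, rfl⟩ := Φ.surjective c
    have hy : y ≠ 0 := fun h => hc0 (by rw [h, map_zero])
    by_cases h3 : 3 ∣ q - 1
    · obtain ⟨m, hm⟩ := h3
      have hm : q = 3 * m + 1 := by have := Fintype.card_pos (α := F); omega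
      set n := 3 * m ^ 2 + 3 * m + 1 with hn
      have hcube : (y ^ n) ^ 3 = algebraMap F L (Algebra.norm F y) := by
        rw [norm_eq S.deg, ← pow_mul, ← hq, ← pow_succ' y q, ← pow_add]
        congr 1
        rw [hn, hm]; ring
      have hcls : cls F (y ^ n) = cls F y := by
        rw [cls_def hm, cls_def hm, map_pow, ← pow_mul, mul_comm n m, pow_mul]
        have h3' : (Algebra.norm F y ^ m) ^ 3 = 1 := by
          rw [← cls_def hm y]; exact cls_cube hm hy
        rw [show n = 3 * (m ^ 2 + m) + 1 by rw [hn]; ring, pow_succ, pow_mul, h3', one_pow, one_mul]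
      refine ⟨y ^ n, Algebra.norm F y ^ m, pow_ne_zero _ hy, ?_, ?_, ?_⟩
      · rw [Algebra.smul_def, map_pow, ← hcube, ← pow_mul (y ^ n) 3 m, ← pow_succ, ← hm]
      · obtain ⟨g, hg, b, hb, hgb⟩ := S.rel_of_cls hm hy (pow_ne_zero n hy) hcls.symm
        exact Hc.transport ⟨φ, hφ, hc⟩ hg hb hgb
      · have hZ : 0 < Zn L (1 : F) := by
          have h1 := three_Z (L := L) hm S.deg (one_pow 3)
          have he := e_sq_le (L := L) hm S.deg (one_pow 3)
          rw [← hq] at h1 he
          by_contra! h0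
          rw [Nat.le_zero.1 h0, Nat.cast_zero, mul_zero, eq_comm, mul_eq_zero] at h1
          have hq2 : (2 : ℤ) ≤ q := by have := Fintype.one_lt_card (α := F); omega
          have he1 : ev L (1 : F) = -(q + 1) := by omega
          rw [he1] at he
          nlinarith
        obtain ⟨w, hw⟩ := Finset.card_pos.1 hZ
        rw [Finset.mem_filter, mem_clsSet] at hw
        have hcl1 : cls F w = cls F (1 : L) := by
          rw [hw.1, cls_def hm (1 : L), map_one, one_pow]
        obtain ⟨u, a, hu, ha, hwu⟩ :=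
          exists_split hm S.deg (ne_zero_of_cls hm (one_pow 3) hw.1) one_ne_zero hcl1
        refine ⟨u, hu, ?_⟩
        have h2' := hw.2
        rw [hwu, mul_smul_comm, mul_one, map_smul, smul_eq_mul] at h2'
        exact (mul_eq_zero.1 h2').resolve_left ha
    · obtain ⟨g, hg, b, hgb⟩ := S.ptTrans_of_not_dvd h3 (Φ y) (Φ 1) hc0
        (Φ.map_ne_zero_iff.2 one_ne_zero)
      have hb : b ≠ 0 := fun h => hc0 ((app g).map_eq_zero_iff.1 (by rw [hgb, h, zero_smul]))
      refine ⟨1, 1, one_ne_zero, by rw [one_pow, one_smul], Hc.transport ⟨φ, hφ, hc⟩ hg hb hgb, ?_⟩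
      obtain ⟨w, hw, hwne⟩ := Submodule.exists_mem_ne_zero_of_ne_bot
        (p := LinearMap.ker (Algebra.trace F L)) (fun hb' => by
          have := LinearMap.finrank_range_add_finrank_ker (Algebra.trace F L)
          rw [hb', finrank_bot, add_zero, S.deg, LinearMap.range_eq_top.2
            (Algebra.trace_surjective F L), finrank_top, finrank_self] at this
          omega)
      have hN : Algebra.norm F w ≠ 0 := Algebra.norm_ne_zero_iff.2 hwne
      have hco : (Nat.card Fˣ).Coprime 3 := by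
        rw [Nat.card_units, Nat.card_eq_fintype_card]
        exact (Nat.prime_three.coprime_iff_not_dvd.2 h3).symm
      obtain ⟨r, hr⟩ := (powCoprime hco).surjective (Units.mk0 _ hN)
      have hr' : (r : F) ^ 3 = Algebra.norm F w := by
        simpa [powCoprime] using congrArg Units.val hr
      refine ⟨(r : F)⁻¹ • w, ?_, by rw [map_smul, LinearMap.mem_ker.1 hw, smul_zero]⟩
      rw [Algebra.smul_def, map_mul, norm_algebraMap S.deg, inv_pow, hr', inv_mul_cancel₀ hN]
  obtain ⟨ψ, hψ, hψM⟩ := hxc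
  have hω : ω ≠ 0 := fun h => by rw [h, zero_smul] at hxω; exact pow_ne_zero q hx hxω
  obtain ⟨f, hfM, hf⟩ := S.frob_mem
  set G : L →ₗ[F] F := (ψ ∘ₗ Φ.toLinearMap) ∘ₗ LinearMap.mulLeft F x with hG
  have hGa : ∀ y, G y = ψ (Φ (x * y)) := fun y => rfl
  have hinv : ∀ y, G (y ^ q) = G y := by
    intro y
    have h1 := mul_mem (mul_mem hfM hψM) (inv_mem hfM)
    have hfc : app f (Φ x) = ω • Φ x := by rw [hf, ← hq, hxω, map_smul]
    rw [hml_conj hψ, hfc] at h1
    have h0 : (ψ ∘ₗ (app f⁻¹).toLinearMap) (ω • Φ x) = 2 := by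
      rw [← hfc]; exact (C5.comp_inv_app ψ f _).trans hψ
    rw [← hml_smul h0 (inv_ne_zero hω), smul_smul, inv_mul_cancel₀ hω, one_smul, inv_inv] at h1
    have h4 := hml_unique hM (Φ.map_ne_zero_iff.2 hx) hψ
      (by rw [LinearMap.smul_apply, ← map_smul]; exact h0) hψM h1
    have h5 := LinearMap.congr_fun h4 (app f (Φ (x * y)))
    rw [LinearMap.smul_apply, LinearMap.comp_apply, LinearEquiv.coe_coe, app_inv_app, hf, ← hq,
      mul_pow, hxω, smul_mul_assoc, map_smul, map_smul, smul_eq_mul, smul_eq_mul] at h5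
    exact mul_left_cancel₀ hω h5
  have hG3 : ∀ y, 3 * G y = Algebra.trace F L y * 2 := by
    intro y
    have h1 : G (algebraMap F L (Algebra.trace F L y)) = Algebra.trace F L y * 2 := by
      rw [Algebra.algebraMap_eq_smul_one, map_smul, hGa, mul_one, hψ, smul_eq_mul]
    rw [trace_eq S.deg, map_add, map_add, pow_two, pow_mul, ← hq, hinv, hinv, hinv] at h1
    rw [← h1]; ring
  have h3 : (3 : F) ≠ 0 := fun h => by
    obtain ⟨y, hy⟩ := Algebra.trace_surjective F L 1
    have := hG3 y
    rw [h, zero_mul, hy, one_mul] at this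
    exact h2 this.symm
  have hGtr : ∀ y, Algebra.trace F L y = 0 → G y = 0 := fun y hy => by
    have := hG3 y
    rw [hy, zero_mul] at this
    exact (mul_eq_zero.1 this).resolve_left h3
  obtain ⟨g, hg, hgy⟩ := S.mulg_mem z hz1
  have hzne : z ≠ 0 := fun h => by rw [h, Algebra.norm_zero] at hz1; exact zero_ne_one hz1
  have h1 := mul_mem (mul_mem hg hψM) (inv_mem hg)
  rw [hml_conj hψ] at h1
  have h0 : (ψ ∘ₗ (app g⁻¹).toLinearMap) (app g (Φ x)) = 2 := (C5.comp_inv_app ψ g _).trans hψ
  have h4 := hml_symm hM h2 ((app g).map_ne_zero_iff.2 (Φ.map_ne_zero_iff.2 hx)) hψ h0 hψM h1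
    (by rw [hgy, mul_comm, ← hGa]; exact hGtr z hz0)
  have h5 : app g⁻¹ (Φ x) = Φ (x * z⁻¹) := by
    apply (app g).injective
    rw [app_app_inv, hgy, mul_comm x, ← mul_assoc, mul_inv_cancel₀ hzne, one_mul]
  rw [LinearMap.comp_apply, LinearEquiv.coe_coe, h5, ← hGa] at h4
  have h6 : Algebra.trace F L z⁻¹ = 0 := by
    have := hG3 z⁻¹
    rw [h4, mul_zero] at this
    exact (mul_eq_zero.1 this.symm).resolve_right h2
  -- the element is a cube root of unity
  set a := z
  set b := z ^ q
  set d := z ^ q ^ 2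
  have e1 : a + b + d = 0 := by rw [← trace_eq S.deg, hz0, map_zero]
  have e3 : a * b * d = 1 := by rw [← norm_eq S.deg, hz1, map_one]
  have e2 : a⁻¹ + b⁻¹ + d⁻¹ = 0 := by
    simp only [b, d, ← inv_pow]
    rw [← trace_eq S.deg, h6, map_zero]
  have hb : b ≠ 0 := pow_ne_zero _ hzne
  have hd : d ≠ 0 := pow_ne_zero _ hzne
  have e2' : b * d + a * d + a * b = 0 := by
    field_simp at e2
    linear_combination e2
  have ez3 : z ^ 3 = 1 := by
    show a ^ 3 = 1
    linear_combination a ^ 2 * e1 - a * e2' + e3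
  have hzq : z ^ q = z := by
    rcases Nat.lt_or_ge (q % 3) 1 with h | h
    · exfalso
      have h31 : (3 : ℕ) ∣ q := Nat.dvd_of_mod_eq_zero (by omega)
      obtain ⟨f', hp, hf'⟩ := FiniteField.card F (ringChar F)
      have hp3 : ringChar F = 3 := by
        rw [hq, hf'] at h31
        exact ((Nat.prime_dvd_prime_iff_eq Nat.prime_three hp).1 (Nat.prime_three.dvd_of_dvd_pow h31)).symm
      have := CharP.cast_eq_zero F (ringChar F)
      rw [hp3] at this
      exact h3 (by exact_mod_cast this)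
    · rcases (by omega : q % 3 = 1 ∨ q % 3 = 2) with h | h
      · obtain ⟨k, hk⟩ : ∃ k, q = 3 * k + 1 := ⟨q / 3, by omega⟩
        rw [hk, pow_succ, pow_mul, ez3, one_pow, one_mul]
      · have hzz : z ^ (q ^ 3) = z := by
          have h7 := FiniteField.pow_card z
          rwa [Module.card_eq_pow_finrank (K := F) (V := L), S.deg] at h7
        obtain ⟨k, hk⟩ : ∃ k, q ^ 3 = 3 * k + 2 := ⟨q ^ 3 / 3, by
          have : q ^ 3 % 3 = 2 := by rw [Nat.pow_mod, h]
          omega⟩
        rw [hk, pow_add, pow_mul, ez3, one_pow, one_mul] at hzz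
        have hz' : z = 1 := mul_left_cancel₀ hzne (by rw [← sq, hzz, mul_one])
        rw [hz', one_pow]
  have e4 : d = a := by
    show z ^ q ^ 2 = z
    rw [pow_two, pow_mul, hzq, hzq]
  rw [e4, show b = a from hzq] at e1
  have : (3 : L) * a = 0 := by linear_combination e1
  rcases mul_eq_zero.1 this with h | h
  · exact h3 ((algebraMap F L).injective (by rw [map_ofNat, map_zero, h]))
  · exact hzne h

end Cfsg.Agent.SL3Max.Singer
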