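/-
Arithmetic of a transvection over the normaliser of a Singer cycle.
Main results: `Setup.axis_bound`, `eq_sixteen`, `e_pair_sixteen`.
-/
import Cfsg.Agent.Lib.SL3Max.Singer.Trans

set_option autoImplicit false
set_option linter.unusedSectionVars false

namespace Cfsg.Agent.SL3Max.Singer

open Cfsg.Agent.Transvect Module Finset

lemma eq_sixteen {p f q P : ℕ} {e : ℤ} (hp : p.Prime) (hq : q = p ^ f) (h3 : q % 3 = 1) (h7 : 7 ≤ q)
    (hP : (P : ℤ) ^ 2 ≤ 4 * q) (he : e ^ 2 ≤ 4 * q) (hPf : 2 ≤ P) (hPq : P < q) (hPp : ∃ k, P = p ^ k)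
    (h : ((p : ℤ) - 1) * ((q : ℤ) + 1 + e) ≤ 3 * ((P : ℤ) - 1)) : q = 16 := by
  obtain ⟨k, rfl⟩ := hPp
  have hk : 1 ≤ k := Nat.one_le_iff_ne_zero.2 fun h0 => by rw [h0, pow_zero] at hPf; omega
  have hkf : k < f := (Nat.pow_lt_pow_iff_right hp.one_lt).1 (hq ▸ hPq)
  have hpos : 0 ≤ (q : ℤ) + 1 + e := by nlinarith [sq_nonneg ((q : ℤ) - 1)]
  rcases hp.two_le.eq_or_lt with rfl | hp2
  · have hle : q ≤ 55 := by
      by_contra! hc
      have h1 : (q : ℤ) + 4 ≤ 3 * (2 : ℤ) ^ k - e := by push_cast at h; linarith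
      have h2 : (56 : ℤ) ≤ q := by exact_mod_cast hc
      push_cast at hP
      have h3 := mul_le_mul h1 h1 (by linarith) (by linarith)
      nlinarith [sq_nonneg ((2 : ℤ) ^ k + e), mul_le_mul_of_nonneg_right h2 (by linarith : (0 : ℤ) ≤ q)]
    have hf : f < 6 := (Nat.pow_lt_pow_iff_right one_lt_two).1 (by omega : 2 ^ f < 2 ^ 6)
    interval_cases f <;> omega
  · rcases (Nat.lt_or_ge p 5) with hp5 | hp5
    · obtain rfl : p = 3 := by
        rcases (by omega : p = 3 ∨ p = 4) with h | h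
        · exact h
        · exact absurd (h ▸ hp) (by norm_num)
      have : 3 ∣ q := hq ▸ dvd_pow_self 3 (by omega)
      omega
    · exfalso
      have h25 : 25 ≤ q := hq ▸ le_trans (Nat.pow_le_pow_left hp5 2) (Nat.pow_le_pow_right hp.pos (by omega))
      have h1 : 4 * ((q : ℤ) + 1 + e) ≤ 3 * (((p ^ k : ℕ) : ℤ) - 1) :=
        le_trans (mul_le_mul_of_nonneg_right (by omega) hpos) h
      have h2 : (25 : ℤ) ≤ q := by exact_mod_cast h25
      nlinarith [sq_nonneg (3 * e + 4 * ((p ^ k : ℕ) : ℤ))]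

variable {F : Type*} [Field F] [Fintype F] {L : Type*} [Field L] [Fintype L] [Algebra F L]
  {m : ℕ} (hm : Fintype.card F = 3 * m + 1) (hdeg : finrank F L = 3)
include hm hdeg

/-- For sixteen elements the deviations are `-8, 4, 4`. -/
lemma e_sixteen (h16 : Fintype.card F = 16) {κ : F} (hκ : κ ^ 3 = 1) :
    ev L κ = -8 ∨ ev L κ = 4 := by
  have aux : ∀ {a b c : ℤ}, a % 3 = 1 → b % 3 = 1 → a + b + c = 0 →
      a ^ 2 + b ^ 2 + c ^ 2 = 96 → a = -8 ∨ a = 4 := by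
    intro a b c ha hb h1 h2
    obtain rfl : c = -a - b := by omega
    have : -8 ≤ a ∧ a ≤ 8 := ⟨by nlinarith [sq_nonneg (a + 2 * b)], by nlinarith [sq_nonneg (a + 2 * b)]⟩
    have : -8 ≤ b ∧ b ≤ 8 := ⟨by nlinarith [sq_nonneg (b + 2 * a)], by nlinarith [sq_nonneg (b + 2 * a)]⟩
    obtain ⟨i, rfl⟩ : ∃ i, a = 3 * i + 1 := ⟨a / 3, by omega⟩
    obtain ⟨j, rfl⟩ : ∃ j, b = 3 * j + 1 := ⟨b / 3, by omega⟩
    have : -3 ≤ i ∧ i ≤ 2 := by omega
    have : -3 ≤ j ∧ j ≤ 2 := by omega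
    obtain ⟨_, _⟩ := ‹-3 ≤ i ∧ i ≤ 2›
    obtain ⟨_, _⟩ := ‹-3 ≤ j ∧ j ≤ 2›
    interval_cases i <;> interval_cases j <;> simp_all
  obtain ⟨ω, h3, h1, -, hall⟩ := exists_omega hm
  obtain ⟨hs, hq⟩ := e_data (L := L) hm hdeg h3 h1 hall
  rw [h16] at hq
  have hmod := e_mod_three (L := L) hm
  rcases hall κ hκ with rfl | rfl | rfl
  · exact aux (hmod _) (hmod _) hs (by simpa using hq)
  · exact aux (b := ev L (1 : F)) (c := ev L (κ ^ 2)) (hmod _) (hmod _) (by omega)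
      (by push_cast at hq; linarith)
  · exact aux (b := ev L (1 : F)) (c := ev L ω) (hmod _) (hmod _) (by omega)
      (by push_cast at hq; linarith)

lemma e_pair_sixteen (h16 : Fintype.card F = 16) {κ κ' : F} (hκ : κ ^ 3 = 1) (hκ' : κ' ^ 3 = 1)
    (hne : κ ≠ κ') : -4 ≤ ev L κ + ev L κ' := by
  obtain ⟨ω, h3, h1, -, hall⟩ := exists_omega hm
  obtain ⟨hs, -⟩ := e_data (L := L) hm hdeg h3 h1 hall
  have h32 : (ω ^ 2) ^ 3 = 1 := by rw [← pow_mul, pow_mul' ω 2 3, h3, one_pow]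
  have e0 := e_sixteen (L := L) hm hdeg h16 (one_pow 3)
  have e1 := e_sixteen (L := L) hm hdeg h16 h3
  have e2 := e_sixteen (L := L) hm hdeg h16 h32
  rcases hall κ hκ with rfl | rfl | rfl <;> rcases hall κ' hκ' with rfl | rfl | rfl <;>
    first | exact absurd rfl hne | omega

variable {Φ : L ≃ₗ[F] V3 F} {M : Subgroup (GL (Fin 3) F)} (S : Setup Φ M)
include S

omit hdeg in
/-- The inequalities of one axis. -/
lemma Setup.axis_bound {p f : ℕ} [CharP F p] (hp : p.Prime) (hf : Fintype.card F = p ^ f)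
    (h7 : 7 ≤ Fintype.card F) {κ : F} (hκ : κ ^ 3 = 1)
    (hinv : ∀ g ∈ M, ∀ v : V3 F, cls F (Φ.symm v) = κ → cls F (Φ.symm (app g v)) = κ)
    {a : L} (ha : a ≠ 0) (hax : Axis M (dd Φ a)) (C : Finset F) (hC : ∀ δ ∈ C, δ ^ 3 = 1 ∧
      ∃ x : L, cls F x = δ ∧ Cen M (Φ x)) :
    ∃ P : ℕ, 2 ≤ P ∧ P < Fintype.card F ∧ (∃ k, P = p ^ k) ∧ (P : ℤ) ∣ ev L (cls F a * κ) ∧
      (P : ℤ) ^ 2 ≤ 4 * Fintype.card F ∧
      ((p : ℤ) - 1) * ∑ δ ∈ C, ((Fintype.card F : ℤ) + 1 + ev L (cls F a * δ)) ≤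
        3 * ((P : ℤ) - 1) := by
  classical
  set q := Fintype.card F with hq
  set P := Nat.card (egrp M (dd Φ a)) with hP
  have hακ : (cls F a * κ) ^ 3 = 1 := by rw [mul_pow, cls_cube hm ha, hκ, one_mul]
  -- two elements
  obtain ⟨hψ0, c, hc0, hψc, htv⟩ := hax
  have hP2 : 2 ≤ P := by
    by_contra hlt
    have h1 : Nat.card (egrp M (dd Φ a)) = 1 := by
      have := Nat.card_pos (α := egrp M (dd Φ a)); omega
    exact hc0 (AddSubgroup.mem_bot.1 (AddSubgroup.eq_bot_of_card_eq _ h1 ▸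
      (mem_egrp.2 ⟨hψc, htv⟩ : c ∈ egrp M (dd Φ a))))
  have hPdvd : P ∣ q ^ 3 := by
    have := AddSubgroup.card_addSubgroup_dvd_card (egrp M (dd Φ a))
    rwa [Module.natCard_eq_pow_finrank (K := F) (V := V3 F), Module.finrank_fintype_fun_eq_card,
      Fintype.card_fin, Nat.card_eq_fintype_card (α := F)] at this
  rw [hf, ← pow_mul] at hPdvd
  obtain ⟨k, -, hk⟩ := (Nat.dvd_prime_pow hp).1 hPdvd
  have hA := S.card_egrp_dvd hm hinv ha
  have he2 := e_sq_le (L := L) hm S.deg hακ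
  have hdiv : ∀ d : ℕ, d ∣ An L (cls F a * κ) → d ∣ q → (d : ℤ) ∣ ev L (cls F a * κ) := by
    intro d h1 h2
    rw [ev]
    exact dvd_sub (dvd_pow (by exact_mod_cast h2) two_ne_zero)
      (dvd_mul_of_dvd_right (by exact_mod_cast h1) 3)
  have hlt : P < q := by
    by_contra hge
    push Not at hge
    have hqP : q ∣ P := by
      rw [hk, hf]
      exact Nat.pow_dvd_pow p ((Nat.pow_le_pow_iff_right hp.one_lt).1 (by rw [← hk, ← hf]; exact hge))
    obtain ⟨t, ht⟩ := hdiv q (hqP.trans hA) dvd_rfl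
    have h0 := e_ne_zero (L := L) hm (cls F a * κ)
    rw [ht] at he2 h0
    have ht0 : t ≠ 0 := fun h => h0 (by rw [h, mul_zero])
    have : (1 : ℤ) ≤ t ^ 2 := by
      have := sq_pos_of_ne_zero ht0; omega
    have h7' : (7 : ℤ) ≤ (q : ℤ) := by exact_mod_cast h7
    rw [← hq, mul_pow] at he2
    have h2 := mul_le_mul_of_nonneg_left this (sq_nonneg (q : ℤ))
    nlinarith
  have hPq : P ∣ q := by
    rw [hk, hf]
    exact Nat.pow_dvd_pow p ((Nat.pow_le_pow_iff_right hp.one_lt).1 (by rw [← hk, ← hf]; exact hlt.le))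
  have hPe := hdiv P hA hPq
  refine ⟨P, hP2, hlt, ⟨k, hk⟩, hPe, ?_, ?_⟩
  · obtain ⟨t, ht⟩ := hPe
    have h0 := e_ne_zero (L := L) hm (cls F a * κ)
    rw [ht] at he2 h0
    have ht0 : t ≠ 0 := fun h => h0 (by rw [h, mul_zero])
    have h1 : (1 : ℤ) ≤ t ^ 2 := by
      have := sq_pos_of_ne_zero ht0; omega
    have h2 := mul_le_mul_of_nonneg_left h1 (sq_nonneg (P : ℤ))
    rw [mul_pow] at he2
    linarith
  · have hle := S.centres_le hm hp ha ⟨hψ0, c, hc0, hψc, htv⟩ C hC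
    rw [← hP] at hle
    have hle' : ((((p - 1) * ∑ δ ∈ C, Zn L (cls F a * δ)) : ℕ) : ℤ) ≤
        (((q - 1) * (P - 1) : ℕ) : ℤ) := by exact_mod_cast hle
    push_cast [Nat.cast_sub hp.one_lt.le, Nat.cast_sub (show 1 ≤ q by omega),
      Nat.cast_sub (show 1 ≤ P by omega)] at hle'
    have hsum : ∀ δ ∈ C, 3 * (Zn L (cls F a * δ) : ℤ) =
        ((q : ℤ) - 1) * ((q : ℤ) + 1 + ev L (cls F a * δ)) := fun δ hδ =>
      three_Z hm S.deg (by rw [mul_pow, cls_cube hm ha, (hC δ hδ).1, one_mul])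
    have h3 : 3 * ∑ δ ∈ C, (Zn L (cls F a * δ) : ℤ) =
        ((q : ℤ) - 1) * ∑ δ ∈ C, ((q : ℤ) + 1 + ev L (cls F a * δ)) := by
      rw [mul_sum, mul_sum]; exact sum_congr rfl hsum
    refine le_of_mul_le_mul_left (a := (q : ℤ) - 1) ?_ (by
      have : (7 : ℤ) ≤ (q : ℤ) := by exact_mod_cast h7
      linarith)
    calc ((q : ℤ) - 1) * (((p : ℤ) - 1) * ∑ δ ∈ C, ((q : ℤ) + 1 + ev L (cls F a * δ)))
        = 3 * (((p : ℤ) - 1) * ∑ δ ∈ C, (Zn L (cls F a * δ) : ℤ)) := by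
          rw [mul_left_comm, ← h3]; ring
      _ ≤ 3 * (((q : ℤ) - 1) * ((P : ℤ) - 1)) := by linarith
      _ = ((q : ℤ) - 1) * (3 * ((P : ℤ) - 1)) := by ring

end Cfsg.Agent.SL3Max.Singer
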