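/-
Sixteen elements: one class of centres, one class of axes, three of each at a flag.
Main results: `Setup.one_class`, `Six.egrp_dirs`, `Six.dgrp_dirs`.
-/
import Cfsg.Agent.Lib.SL3Max.Singer.Transvection
import Cfsg.Agent.Lib.SL3Max.Singer.Dirs

set_option autoImplicit false
set_option linter.unusedSectionVars false

namespace Cfsg.Agent.SL3Max.Singer

open Cfsg.Agent.Transvect Module Finset

variable {F : Type*} [Field F] [Fintype F]

/-- The transvections of `M` with centre `c`. -/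
def dgrp (M : Subgroup (GL (Fin 3) F)) (c : V3 F) : AddSubgroup (D3 F) where
  carrier := {χ | χ c = 0 ∧ tv c χ ∈ M}
  zero_mem' := ⟨rfl, by
    rw [show tv c (0 : D3 F) = 1 from gl_ext fun x => by
      rw [tv_apply (v := c) (φ := 0) rfl, LinearMap.zero_apply, zero_smul, add_zero, map_one]; rfl]
    exact one_mem M⟩
  add_mem' := fun {χ χ'} h h' => ⟨by rw [LinearMap.add_apply, h.1, h'.1, add_zero], by
    rw [show tv c (χ + χ') = tv c χ * tv c χ' from gl_ext fun x => by
      rw [map_mul, LinearEquiv.mul_apply, tv_apply (by rw [LinearMap.add_apply, h.1, h'.1, add_zero]),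
        tv_apply h'.1, tv_apply h.1, map_add, map_smul, h.1, smul_zero, add_zero,
        LinearMap.add_apply, add_smul]
      abel]
    exact mul_mem h.2 h'.2⟩
  neg_mem' := fun {χ} h => ⟨by rw [LinearMap.neg_apply, h.1, neg_zero], by
    rw [← tv_inv h.1]; exact inv_mem h.2⟩

lemma mem_dgrp {M : Subgroup (GL (Fin 3) F)} {χ : D3 F} {c : V3 F} :
    χ ∈ dgrp M c ↔ χ c = 0 ∧ tv c χ ∈ M := Iff.rfl

variable {L : Type*} [Field L] [Fintype L] [Algebra F L]

/-- The data of the exceptional configuration. -/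
structure Six (Φ : L ≃ₗ[F] V3 F) (M : Subgroup (GL (Fin 3) F)) (δ α : F) : Prop
    extends Setup Φ M where
  card16 : Fintype.card F = 16
  hδ : δ ^ 3 = 1
  hα : α ^ 3 = 1
  exists_cen : ∃ x : L, cls F x = δ ∧ Cen M (Φ x)
  exists_axis : ∃ a : L, cls F a = α ∧ Axis M (dd Φ a)
  cen_class : ∀ v, Cen M v → cls F (Φ.symm v) = δ
  axis_class : ∀ y : L, Axis M (dd Φ y) → cls F y = α
  dev : ev L (α * δ) = -8

variable {Φ : L ≃ₗ[F] V3 F} {M : Subgroup (GL (Fin 3) F)}

/-- One class of centres and one of axes. -/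
lemma Setup.one_class (S : Setup Φ M) (h16 : Fintype.card F = 16) [CharP F 2] {κ : F} (hκ : κ ^ 3 = 1)
    (hinv : ∀ g ∈ M, ∀ v : V3 F, cls F (Φ.symm v) = κ → cls F (Φ.symm (app g v)) = κ)
    {x a : L} (hx : Cen M (Φ x)) (ha : Axis M (dd Φ a)) :
    Six Φ M (cls F x) (cls F a) := by
  classical
  have hm : Fintype.card F = 3 * 5 + 1 := h16
  have hf : Fintype.card F = 2 ^ 4 := h16
  have h7 : 7 ≤ Fintype.card F := by omega
  have hdeg := S.deg
  have hax0 : ∀ {y : L}, Axis M (dd Φ y) → y ≠ 0 := fun h h0 =>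
    h.1 (LinearMap.ext fun z => by simp [h0, dd])
  have hx0 : x ≠ 0 := fun h0 => hx.1 (by rw [h0, map_zero])
  have hδ := cls_cube hm hx0
  have hα := cls_cube hm (hax0 ha)
  have hcen : ∀ v, Cen M v → cls F (Φ.symm v) = cls F x := by
    intro v hv
    by_contra hne
    have hv0 : Φ.symm v ≠ 0 := fun h0 => hv.1 (Φ.symm.map_eq_zero_iff.1 h0)
    have hδ' := cls_cube hm hv0
    obtain ⟨P, -, -, -, -, hP, hsum⟩ := S.axis_bound hm Nat.prime_two hf h7 hκ hinv (hax0 ha) ha
      {cls F x, cls F (Φ.symm v)} (fun d hd => by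
        simp only [mem_insert, mem_singleton] at hd
        rcases hd with rfl | rfl
        · exact ⟨hδ, x, rfl, hx⟩
        · exact ⟨hδ', _, rfl, by rwa [Φ.apply_symm_apply]⟩)
    rw [sum_pair (Ne.symm hne)] at hsum
    have hpair := e_pair_sixteen (L := L) hm hdeg h16
      (κ := cls F a * cls F x) (κ' := cls F a * cls F (Φ.symm v))
      (by rw [mul_pow, hα, hδ, one_mul]) (by rw [mul_pow, hα, hδ', one_mul])
      (fun h => hne (mul_left_cancel₀ (fun h0 => by
        rw [h0, zero_pow three_ne_zero] at hα; exact zero_ne_one hα) h).symm)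
    rw [h16] at hP hsum
    push_cast at hP hsum
    nlinarith
  have hinv' : ∀ g ∈ M, ∀ v : V3 F, cls F (Φ.symm v) = cls F x →
      cls F (Φ.symm (app g v)) = cls F x := by
    intro g hg v hv
    have h1 : Cen M v := by
      simpa using S.cen_of_cls hm hx (ne_zero_of_cls hm hδ hv) hv.symm
    exact hcen _ (h1.conj hg)
  have hdev : ∀ y : L, Axis M (dd Φ y) → ev L (cls F y * cls F x) = -8 := by
    intro y hy
    obtain ⟨P, -, -, -, hPe, -, hsum⟩ := S.axis_bound hm Nat.prime_two hf h7 hδ hinv' (hax0 hy) hy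
      {cls F x} (fun d hd => ⟨(mem_singleton.1 hd) ▸ hδ, x, (mem_singleton.1 hd).symm, hx⟩)
    rcases e_sixteen (L := L) hm hdeg h16 (κ := cls F y * cls F x)
      (by rw [mul_pow, cls_cube hm (hax0 hy), hδ, one_mul]) with h | h
    · exact h
    · rw [sum_singleton, h, h16] at hsum
      rw [h] at hPe
      have := Int.le_of_dvd (by norm_num) hPe
      push_cast at hsum
      omega
  refine ⟨S, h16, hδ, hα, ⟨x, rfl, hx⟩, ⟨a, rfl, ha⟩, hcen, fun y hy => ?_, hdev a ha⟩
  by_contra hne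
  have h1 := hdev y hy
  have h2 := hdev a ha
  have := e_pair_sixteen (L := L) hm hdeg h16 (κ := cls F y * cls F x) (κ' := cls F a * cls F x)
    (by rw [mul_pow, cls_cube hm (hax0 hy), hδ, one_mul]) (by rw [mul_pow, hα, hδ, one_mul])
    (fun h => hne (mul_right_cancel₀ (fun h0 => by
      rw [h0, zero_pow three_ne_zero] at hδ; exact zero_ne_one hδ) h))
  omega

namespace Six

variable {δ α : F} (T : Six Φ M δ α)
include T

lemma hm : Fintype.card F = 3 * 5 + 1 := T.card16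

lemma Zn_eq : Zn L (α * δ) = 45 := by
  have h := three_Z (L := L) T.hm T.deg (κ := α * δ) (by rw [mul_pow, T.hα, T.hδ, one_mul])
  rw [T.dev, T.card16] at h
  push_cast at h
  omega

lemma cen_of_delta {v : V3 F} (hv : cls F (Φ.symm v) = δ) : Cen M v := by
  obtain ⟨x, hx, hc⟩ := T.exists_cen
  simpa using T.toSetup.cen_of_cls T.hm hc (ne_zero_of_cls T.hm T.hδ hv) (hx.trans hv.symm)

lemma axis_of_alpha {y : L} (hy : cls F y = α) : Axis M (dd Φ y) := by
  obtain ⟨a, ha, hax⟩ := T.exists_axis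
  exact T.toSetup.axis_of_cls T.hm hax (ne_zero_of_cls T.hm T.hα hy) (ha.trans hy.symm)

/-- An axis has three translations. -/
lemma egrp_dirs {ψ : D3 F} (hψ : Axis M ψ) : ∃ w1 w2, w1 ∈ egrp M ψ ∧ w2 ∈ egrp M ψ ∧ w1 ≠ 0 ∧
    (∀ b : F, w2 ≠ b • w1) ∧ ∀ w ∈ egrp M ψ, w = 0 ∨ w = w1 ∨ w = w2 ∨ w = w1 + w2 := by
  classical
  obtain ⟨a, rfl⟩ := exists_dd Φ ψ
  have ha : cls F a = α := T.axis_class a hψ
  have ha0 := ne_zero_of_cls T.hm T.hα ha
  refine three_dirs (F := F) T.card16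
    (C := univ.filter (fun v : V3 F => cls F (Φ.symm v) = δ ∧ dd Φ a v = 0)) ?_ ?_ ?_
  · refine (card_nbij' (fun v => a * Φ.symm v) (fun y => Φ (y / a)) ?_ ?_ ?_ ?_).trans T.Zn_eq
    · intro v hv
      simp only [mem_coe, mem_filter, mem_univ, true_and, mem_clsSet] at hv ⊢
      refine ⟨by rw [cls_mul, ha, hv.1], ?_⟩
      rw [← hv.2]
      conv_rhs => rw [← Φ.apply_symm_apply v, dd_apply]
    · intro y hy
      simp only [mem_coe, mem_filter, mem_univ, true_and, mem_clsSet,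
        LinearEquiv.symm_apply_apply] at hy ⊢
      refine ⟨mul_left_cancel₀ (a := α) (fun h0 => ?_) ?_, ?_⟩
      · have := T.hα
        rw [h0, zero_pow three_ne_zero] at this
        exact zero_ne_one this
      · rw [← ha, ← cls_mul, mul_div_cancel₀ _ ha0, hy.1, ha]
      · rw [dd_apply, mul_div_cancel₀ _ ha0]; exact hy.2
    · intro v _
      simp only [mul_div_cancel_left₀ _ ha0, LinearEquiv.apply_symm_apply]
    · intro y _
      simp only [LinearEquiv.symm_apply_apply, mul_div_cancel₀ _ ha0]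
  · intro v hv
    simp only [mem_filter, mem_univ, true_and] at hv
    have hc := T.cen_of_delta hv.1
    exact ⟨hc.1, T.toSetup.exists_mem_egrp T.hm hc hψ hv.2⟩
  · intro w hw hw0 b hb
    have hc : Cen M w := ⟨hw0, _, hψ.1, hw.1, hw.2⟩
    simp only [mem_filter, mem_univ, true_and, map_smul, hw.1, smul_zero, and_true]
    rw [cls_smul T.hm T.deg hb, T.cen_class w hc]

/-- A centre has three transvections. -/
lemma dgrp_dirs {c : V3 F} (hc : Cen M c) : ∃ χ1 χ2, χ1 ∈ dgrp M c ∧ χ2 ∈ dgrp M c ∧ χ1 ≠ 0 ∧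
    (∀ b : F, χ2 ≠ b • χ1) ∧ ∀ χ ∈ dgrp M c, χ = 0 ∨ χ = χ1 ∨ χ = χ2 ∨ χ = χ1 + χ2 := by
  classical
  obtain ⟨x, rfl⟩ := Φ.surjective c
  have hx : cls F x = δ := by simpa using T.cen_class _ hc
  have hx0 := ne_zero_of_cls T.hm T.hδ hx
  refine three_dirs (F := F) T.card16
    (C := ((clsSet L α).filter fun y => Algebra.trace F L (y * x) = 0).image (dd Φ)) ?_ ?_ ?_
  · rw [card_image_of_injective _ (dd_injective Φ)]
    refine (card_nbij' (fun y => y * x) (fun y => y / x) ?_ ?_ ?_ ?_).trans T.Zn_eq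
    · intro y hy
      simp only [mem_coe, mem_filter, mem_clsSet] at hy ⊢
      exact ⟨by rw [cls_mul, hy.1, hx], hy.2⟩
    · intro y hy
      simp only [mem_coe, mem_filter, mem_clsSet] at hy ⊢
      refine ⟨mul_right_cancel₀ (b := δ) (fun h0 => ?_) ?_, by rw [div_mul_cancel₀ _ hx0]; exact hy.2⟩
      · have := T.hδ
        rw [h0, zero_pow three_ne_zero] at this
        exact zero_ne_one this
      · rw [← hx, ← cls_mul, div_mul_cancel₀ _ hx0, hy.1, hx]
    · intro y _; exact mul_div_cancel_right₀ _ hx0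
    · intro y _; exact div_mul_cancel₀ _ hx0
  · intro χ hχ
    obtain ⟨y, hy, rfl⟩ := mem_image.1 hχ
    simp only [mem_filter, mem_clsSet] at hy
    have hax := T.axis_of_alpha hy.1
    have h0 : dd Φ y (Φ x) = 0 := (dd_apply Φ y x).trans hy.2
    obtain ⟨b, hb, hmem⟩ := flag hc hax h0
    exact ⟨hax.1, b, hb, by rw [LinearMap.smul_apply, h0, smul_zero], hmem⟩
  · intro χ hχ hχ0 b hb
    obtain ⟨y, rfl⟩ := exists_dd Φ χ
    have hy := T.axis_class y ⟨hχ0, Φ x, hc.1, hχ.1, hχ.2⟩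
    refine mem_image.2 ⟨b • y, ?_, dd_smul b y⟩
    simp only [mem_filter, mem_clsSet]
    refine ⟨by rw [cls_smul T.hm T.deg hb, hy], ?_⟩
    rw [smul_mul_assoc, map_smul, ← dd_apply Φ y x, hχ.1, smul_zero]

end Six

end Cfsg.Agent.SL3Max.Singer
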