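/-
Sixteen elements: the configuration forces semilinearity.
Main results: `Six.card_le`, `Six.semi`.
-/
import Cfsg.Agent.Lib.SL3Max.Singer.SixteenLocal
import Cfsg.Agent.Lib.SL3Max.Singer.Semi

set_option autoImplicit false
set_option linter.unusedSectionVars false

namespace Cfsg.Agent.SL3Max.Singer

open Cfsg.Agent.Transvect Module Finset

variable {F : Type*} [Field F] [Fintype F]

/-- The elements of `M` fixing the point of `c`. -/
def ptStab (M : Subgroup (GL (Fin 3) F)) (c : V3 F) : Subgroup (GL (Fin 3) F) where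
  carrier := {g | g ∈ M ∧ ∃ a : F, a ≠ 0 ∧ app g c = a • c}
  one_mem' := ⟨one_mem M, 1, one_ne_zero, by rw [map_one, one_smul]; rfl⟩
  mul_mem' := fun {g h} ⟨hg, a, ha, hga⟩ ⟨hh, b, hb, hhb⟩ => ⟨mul_mem hg hh, b * a, mul_ne_zero hb ha, by
    rw [map_mul, LinearEquiv.mul_apply, hhb, map_smul, hga, smul_smul]⟩
  inv_mem' := fun {g} ⟨hg, a, ha, hga⟩ => ⟨inv_mem hg, a⁻¹, inv_ne_zero ha, by
    apply (app g).injective
    rw [app_app_inv, map_smul, hga, smul_smul, inv_mul_cancel₀ ha, one_smul]⟩

variable {L : Type*} [Field L] [Fintype L] [Algebra F L] {Φ : L ≃ₗ[F] V3 F}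
  {M : Subgroup (GL (Fin 3) F)}

namespace Six

variable {δ α : F} (T : Six Φ M δ α)
include T

lemma scalar_mem {a : F} (ha : a ^ 3 = 1) : ∃ z ∈ M, ∀ v : V3 F, app z v = a • v := by
  obtain ⟨z, hz, hzy⟩ := T.mulg_mem (algebraMap F L a) (by rw [norm_algebraMap T.deg, ha])
  refine ⟨z, hz, fun v => ?_⟩
  obtain ⟨y, rfl⟩ := Φ.surjective v
  rw [hzy, ← Algebra.smul_def, map_smul]

/-- The stabiliser of a centre is small. -/
lemma card_ptStab {c : V3 F} (hc : Cen M c) : Nat.card (ptStab M c) ≤ 72 := by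
  classical
  obtain ⟨χ1, χ2, hχ1, hχ2, hχ10, hχ12, hD⟩ := T.dgrp_dirs hc
  have hax : ∀ χ ∈ dgrp M c, χ ≠ 0 → Axis M χ := fun χ hχ h0 => ⟨h0, c, hc.1, hχ.1, hχ.2⟩
  -- the moving point
  obtain ⟨w2, hw2, hw2c⟩ : ∃ w2 ∈ egrp M χ1, ∀ b : F, w2 ≠ b • c := by
    obtain ⟨u1, u2, hu1, hu2, hu10, hu12, -⟩ := T.egrp_dirs (hax χ1 hχ1 hχ10)
    by_cases h : ∀ b : F, u1 ≠ b • c
    · exact ⟨u1, hu1, h⟩
    · push Not at h
      obtain ⟨b, hb⟩ := h
      refine ⟨u2, hu2, fun b' hb' => hu12 (b' * b⁻¹) ?_⟩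
      have hb0 : b ≠ 0 := fun h0 => hu10 (by rw [hb, h0, zero_smul])
      rw [hb, smul_smul, mul_assoc, inv_mul_cancel₀ hb0, mul_one, hb']
  have hw20 : w2 ≠ 0 := fun h => hw2c 0 (by rw [h, zero_smul])
  choose a ha0 hac using fun g : ptStab M c => g.2.2
  let tr : ptStab M c → D3 F → D3 F := fun g χ => a g • (χ ∘ₗ (app (g : GL (Fin 3) F)⁻¹).toLinearMap)
  have htr : ∀ g χ, χ ∈ dgrp M c → tr g χ ∈ dgrp M c := by
    intro g χ hχ
    have h0 : (χ ∘ₗ (app (g : GL (Fin 3) F)⁻¹).toLinearMap) c = 0 := by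
      have := C5.comp_inv_app χ (g : GL (Fin 3) F) c
      rw [hac, map_smul, hχ.1, smul_eq_mul] at this
      exact (mul_eq_zero.1 this).resolve_left (ha0 g)
    refine ⟨by simp only [tr, LinearMap.smul_apply, h0, smul_zero], ?_⟩
    have h1 := mul_mem (mul_mem g.2.1 hχ.2) (inv_mem g.2.1)
    rw [tv_conj hχ.1, hac, tv_smul h0] at h1
    exact h1
  have htr0 : ∀ g χ, χ ≠ 0 → tr g χ ≠ 0 := fun g χ h =>
    smul_ne_zero (ha0 g) (comp_inv_ne_zero h _)
  let mv : ptStab M c → V3 F := fun g => (a g)⁻¹ • app (g : GL (Fin 3) F) w2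
  have hmv : ∀ g, mv g ∈ egrp M (tr g χ1) ∧ ∀ b : F, mv g ≠ b • c := by
    intro g
    have h0 : (χ1 ∘ₗ (app (g : GL (Fin 3) F)⁻¹).toLinearMap) (app (g : GL (Fin 3) F) w2) = 0 := by
      rw [C5.comp_inv_app]; exact hw2.1
    refine ⟨⟨?_, ?_⟩, fun b hb => ?_⟩
    · simp only [tr, mv, LinearMap.smul_apply, map_smul, h0, smul_zero]
    · have h1 := mul_mem (mul_mem g.2.1 hw2.2) (inv_mem g.2.1)
      rw [tv_conj hw2.1] at h1
      have h2 : (tr g χ1) (app (g : GL (Fin 3) F) w2) = 0 := by
        simp only [tr, LinearMap.smul_apply, h0, smul_zero]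
      simp only [mv]
      rw [tv_smul h2]
      simp only [tr, smul_smul, inv_mul_cancel₀ (ha0 g), one_smul]
      exact h1
    · refine hw2c b ((app (g : GL (Fin 3) F)).injective ?_)
      have h1 : a g • mv g = (a g * b) • c := by rw [hb, smul_smul]
      simp only [mv, smul_smul, mul_inv_cancel₀ (ha0 g), one_smul] at h1
      rw [h1, map_smul, hac, smul_smul, mul_comm]
  set X : Finset (D3 F) := ({χ1, χ2, χ1 + χ2} : Finset (D3 F)) with hX
  have hXc : X.card ≤ 3 := card_le_three
  have hmemX : ∀ χ ∈ dgrp M c, χ ≠ 0 → χ ∈ X := fun χ hχ h0 => by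
    rcases hD χ hχ with h | h | h | h
    · exact absurd h h0
    all_goals simp [hX, h]
  set Vs : D3 F → Finset (V3 F) := fun χ =>
    univ.filter fun v => v ∈ egrp M χ ∧ ∀ b : F, v ≠ b • c
  have hVs : ∀ χ ∈ X, (Vs χ).card ≤ 2 := by
    intro χ hχ
    have hmem : χ ∈ dgrp M c ∧ χ ≠ 0 := by
      simp only [hX, mem_insert, mem_singleton] at hχ
      rcases hχ with rfl | rfl | rfl
      · exact ⟨hχ1, hχ10⟩
      · exact ⟨hχ2, fun h => hχ12 0 (by rw [h, zero_smul])⟩
      · exact ⟨AddSubgroup.add_mem _ hχ1 hχ2, fun h => hχ12 (-1) (by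
          rw [eq_neg_of_add_eq_zero_right h]; module)⟩
    have hx := hax χ hmem.1 hmem.2
    obtain ⟨u1, u2, hu1, hu2, hu10, hu12, hE⟩ := T.egrp_dirs hx
    obtain ⟨b, hb, hbc⟩ := T.toSetup.exists_mem_egrp T.hm hc hx hmem.1.1
    set U : Finset (V3 F) := ({u1, u2, u1 + u2} : Finset (V3 F)) with hU
    have hsub : Vs χ ⊆ U.erase (b • c) := by
      intro v hv
      simp only [Vs, mem_filter, mem_univ, true_and] at hv
      refine mem_erase.2 ⟨hv.2 b, ?_⟩
      rcases hE v hv.1 with h | h | h | h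
      · exact absurd (by rw [h, zero_smul]) (hv.2 0)
      all_goals simp [hU, h]
    have hbU : b • c ∈ U := by
      rcases hE _ hbc with h | h | h | h
      · exact absurd h (smul_ne_zero hb hc.1)
      all_goals simp [hU, h]
    have h1 := card_le_card hsub
    rw [card_erase_of_mem hbU] at h1
    have h3 : U.card ≤ 3 := card_le_three
    omega
  let Θ : ptStab M c → D3 F × D3 F × V3 F := fun g => (tr g χ1, tr g χ2, mv g)
  set Y := X.biUnion fun χ => ((X.erase χ) ×ˢ Vs χ).image fun p => (χ, p) with hY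
  have hYc : Y.card ≤ 12 := by
    refine card_biUnion_le.trans ((sum_le_card_nsmul _ _ 4 fun χ hχ => ?_).trans ?_)
    · refine card_image_le.trans ?_
      rw [card_product, card_erase_of_mem hχ]
      calc (X.card - 1) * (Vs χ).card ≤ 2 * 2 := Nat.mul_le_mul (by omega) (hVs χ hχ)
        _ = 4 := rfl
    · rw [smul_eq_mul]; omega
  have himg : (univ.image Θ) ⊆ Y := by
    intro p hp
    obtain ⟨g, -, rfl⟩ := mem_image.1 hp
    have h1 := hmemX _ (htr g χ1 hχ1) (htr0 g χ1 hχ10)
    refine mem_biUnion.2 ⟨_, h1, mem_image.2 ⟨(tr g χ2, mv g), mem_product.2 ⟨mem_erase.2 ⟨?_, ?_⟩, ?_⟩, rfl⟩⟩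
    · intro he
      refine hχ12 1 ?_
      rw [one_smul]
      refine LinearMap.ext fun x => ?_
      have := LinearMap.congr_fun he (app (g : GL (Fin 3) F) x)
      simp only [tr, LinearMap.smul_apply, LinearMap.comp_apply, LinearEquiv.coe_coe, app_inv_app,
        smul_eq_mul] at this
      exact mul_left_cancel₀ (ha0 g) this
    · exact hmemX _ (htr g χ2 hχ2) (htr0 g χ2 (fun h => hχ12 0 (by rw [h, zero_smul])))
    · simp only [Vs, mem_filter, mem_univ, true_and]
      exact hmv g
  have hfib : ∀ p ∈ univ.image Θ, (univ.filter fun g => Θ g = p).card ≤ 6 := by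
    intro p hp
    obtain ⟨h, -, rfl⟩ := mem_image.1 hp
    set K3 := univ.filter (fun z : F => z ^ 3 = 1)
    have hK3 : K3.card ≤ 3 := by
      obtain ⟨ω, -, -, -, hall⟩ := exists_omega T.hm
      refine (card_le_card (t := ({1, ω, ω ^ 2} : Finset F)) fun z hz => ?_).trans card_le_three
      simpa using hall z (by simpa [K3] using hz)
    -- the shape of the quotient
    have key : ∀ g, Θ g = Θ h → ∃ b : F, b ^ 3 = 1 ∧ ∃ χ, (χ = 0 ∨ χ = χ1) ∧
        ∀ x, app ((h : GL (Fin 3) F)⁻¹ * (g : GL (Fin 3) F)) x = b • (x + χ x • c) := by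
      intro g hg
      simp only [Θ, Prod.mk.injEq] at hg
      obtain ⟨hg1, hg2, hgv⟩ := hg
      set k : GL (Fin 3) F := (h : GL (Fin 3) F)⁻¹ * (g : GL (Fin 3) F) with hk
      have hkM : k ∈ M := mul_mem (inv_mem h.2.1) g.2.1
      set b := a g / a h with hb
      have hb0 : b ≠ 0 := div_ne_zero (ha0 g) (ha0 h)
      have hkc : app k c = b • c := by
        apply (app (h : GL (Fin 3) F)).injective
        rw [map_smul, hac, smul_smul, hb, div_mul_cancel₀ _ (ha0 h), ← hac g, ← LinearEquiv.mul_apply,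
          ← map_mul, hk, mul_inv_cancel_left]
      have hkw : app k w2 = b • w2 := by
        apply (app (h : GL (Fin 3) F)).injective
        rw [map_smul, ← LinearEquiv.mul_apply, ← map_mul, hk, mul_inv_cancel_left]
        simp only [mv] at hgv
        have h2 := congrArg (fun v => a g • v) hgv
        simp only [smul_smul, mul_inv_cancel₀ (ha0 g), one_smul] at h2
        rw [h2, hb, div_eq_mul_inv]
      have hkχ : ∀ χ, tr g χ = tr h χ → ∀ x, χ (app k x) = b * χ x := by
        intro χ hχ x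
        have h1 := LinearMap.congr_fun hχ (app (g : GL (Fin 3) F) x)
        simp only [tr, LinearMap.smul_apply, LinearMap.comp_apply, LinearEquiv.coe_coe,
          app_inv_app, smul_eq_mul] at h1
        rw [hk, map_mul, LinearEquiv.mul_apply, hb, div_mul_eq_mul_div, eq_div_iff (ha0 h), h1,
          mul_comm]
      obtain ⟨e, he⟩ := LinearMap.surjective hχ10 1
      have hχ2w : χ2 w2 ≠ 0 := fun h0 => by
        have hnot : w2 ∉ F ∙ c := fun hm => by
          obtain ⟨t, ht⟩ := Submodule.mem_span_singleton.1 hm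
          exact hw2c t ht.symm
        obtain ⟨t, ht⟩ := line_unique hχ10 hc.1 hnot hχ1.1 hw2.1 hχ2.1 h0
        exact hχ12 t ht
      have hker : ∀ z, χ1 z = 0 → ∃ s t : F, z = s • c + t • w2 := by
        intro z hz
        have : z ∈ LinearMap.ker χ1 := hz
        rw [ker_eq_span hχ10 hc.1 (fun hm => by
          obtain ⟨t, ht⟩ := Submodule.mem_span_singleton.1 hm
          exact hw2c t ht.symm) hχ1.1 hw2.1] at this
        obtain ⟨s, t, hst⟩ := Submodule.mem_span_pair.1 this
        exact ⟨s, t, hst.symm⟩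
      obtain ⟨s, hs⟩ : ∃ s : F, app k e - b • e = s • c := by
        obtain ⟨s, t, hst⟩ := hker (app k e - b • e) (by
          rw [map_sub, map_smul, hkχ χ1 hg1, smul_eq_mul, sub_self])
        have h2 := congrArg χ2 hst
        rw [map_sub, map_smul, hkχ χ2 hg2, smul_eq_mul, sub_self, map_add, map_smul, map_smul,
          hχ2.1, smul_zero, zero_add, smul_eq_mul, eq_comm, mul_eq_zero] at h2
        exact ⟨s, by rw [hst, h2.resolve_right hχ2w, zero_smul, add_zero]⟩
      set χ := (s / b) • χ1 with hχ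
      have hχc : χ c = 0 := by rw [hχ, LinearMap.smul_apply, hχ1.1, smul_zero]
      have hform : ∀ x, app k x = b • (x + χ x • c) := by
        intro x
        obtain ⟨s', t', hx⟩ := hker (x - χ1 x • e) (by simp [he])
        rw [sub_eq_iff_eq_add'] at hx
        have hxe : χ x = s / b * χ1 x := rfl
        conv_lhs => rw [hx, map_add, map_add, map_smul, map_smul, map_smul, hkc, hkw,
          sub_eq_iff_eq_add'.1 hs]
        rw [hxe]
        conv_rhs => arg 2; arg 1; rw [hx]
        rw [show b • ((χ1 x • e + (s' • c + t' • w2)) + (s / b * χ1 x) • c) =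
          b • (χ1 x • e + (s' • c + t' • w2)) + (b * (s / b) * χ1 x) • c by
            rw [smul_add, smul_smul, mul_assoc], mul_div_cancel₀ _ hb0]
        module
      have hb3 : b ^ 3 = 1 := by
        have hd := T.le hkM
        rw [mem_sl_iff] at hd
        have hmat : (k : Matrix (Fin 3) (Fin 3) F) = b • tmat c χ :=
          Matrix.ext_of_mulVec_single fun i => by
            rw [← app_apply, hform, Matrix.smul_mulVec, tmat_mulVec]
        rw [hmat, Matrix.det_smul, det_tmat hχc, mul_one, Fintype.card_fin] at hd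
        exact hd
      refine ⟨b, hb3, χ, ?_, hform⟩
      obtain ⟨z, hz, hzx⟩ := T.scalar_mem hb3
      have htv : tv c χ ∈ M := by
        rw [show tv c χ = z⁻¹ * k from gl_ext fun x => by
          apply (app z).injective
          rw [map_mul, LinearEquiv.mul_apply, app_app_inv, hzx, tv_apply hχc, hform]]
        exact mul_mem (inv_mem hz) hkM
      rcases hD χ ⟨hχc, htv⟩ with h | h | h | h
      · exact Or.inl h
      · exact Or.inr h
      · exact absurd h.symm (hχ12 (s / b))
      · refine absurd ?_ (hχ12 (s / b - 1))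
        rw [hχ] at h
        linear_combination (norm := module) -h
    choose! b hb χ hχ hform using key
    refine (card_le_card_of_injOn (fun g => (b g, χ g)) (t := K3 ×ˢ ({0, χ1} : Finset (D3 F))) ?_ ?_).trans ?_
    · intro g hg
      simp only [mem_coe, mem_filter, mem_univ, true_and] at hg
      simp only [mem_coe, mem_product, K3, mem_filter, mem_univ, true_and, mem_insert, mem_singleton]
      exact ⟨hb g hg, hχ g hg⟩
    · intro g hg g' hg' he
      simp only [mem_coe, mem_filter, mem_univ, true_and] at hg hg'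
      obtain ⟨he1, he2⟩ := Prod.mk.inj he
      refine Subtype.ext (mul_left_cancel (a := (h : GL (Fin 3) F)⁻¹) (gl_ext fun x => ?_))
      rw [hform g hg, hform g' hg', he1, he2]
    · rw [card_product]
      calc K3.card * ({0, χ1} : Finset (D3 F)).card ≤ 3 * 2 := Nat.mul_le_mul hK3 card_le_two
        _ = 6 := rfl
  rw [Nat.card_eq_fintype_card]
  calc Fintype.card (ptStab M c) = (univ : Finset (ptStab M c)).card := card_univ.symm
    _ ≤ 6 * (univ.image Θ).card := card_le_mul_card_image _ 6 hfib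
    _ ≤ 6 * 12 := Nat.mul_le_mul_left _ ((card_le_card himg).trans hYc)
    _ = 72 := rfl

/-- The group is small. -/
lemma card_le : Nat.card M ≤ 6552 := by
  classical
  obtain ⟨x, hx, hc⟩ := T.exists_cen
  set c := Φ x
  set H := (ptStab M c).subgroupOf M with hH
  have hHc : Nat.card H ≤ 72 := by
    rw [Nat.card_congr (Subgroup.subgroupOfEquivOfLe (fun g hg => hg.1 : ptStab M c ≤ M)).toEquiv]
    exact T.card_ptStab hc
  have hidx : H.index * 15 ≤ 1365 := by
    let f : (M ⧸ H) × Fˣ → {v : L // v ∈ clsSet L δ} := fun z =>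
      ⟨Φ.symm ((z.2 : F) • app (z.1.out : GL (Fin 3) F) c), by
        rw [mem_clsSet, map_smul, cls_smul T.hm T.deg z.2.ne_zero]
        exact T.cen_class _ (hc.conj z.1.out.2)⟩
    have hf : Function.Injective f := by
      rintro ⟨g, a⟩ ⟨g', a'⟩ h
      have h1 : (a : F) • app (g.out : GL (Fin 3) F) c = (a' : F) • app (g'.out : GL (Fin 3) F) c :=
        Φ.symm.injective (congrArg Subtype.val h)
      have hgg : g = g' := by
        rw [← Quotient.out_eq g, ← Quotient.out_eq g']
        refine QuotientGroup.eq.2 ?_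
        refine Subgroup.mem_subgroupOf.2 ?_
        refine ⟨(g.out⁻¹ * g'.out : M).2, (a : F) * (a' : F)⁻¹,
          mul_ne_zero a.ne_zero (inv_ne_zero a'.ne_zero), ?_⟩
        have h2 : app (g'.out : GL (Fin 3) F) c = ((a : F) * (a' : F)⁻¹) • app (g.out : GL (Fin 3) F) c := by
          rw [mul_comm, mul_smul, h1, smul_smul, inv_mul_cancel₀ a'.ne_zero, one_smul]
        rw [Subgroup.coe_mul, Subgroup.coe_inv, map_mul, LinearEquiv.mul_apply, h2, map_smul, app_inv_app]
      subst hgg
      rw [Units.ext (smul_left_injective F ((app (g.out : GL (Fin 3) F)).map_ne_zero_iff.2 hc.1) h1)]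
    have hle := Nat.card_le_card_of_injective f hf
    rw [Nat.card_prod, ← Subgroup.index_eq_card, Nat.card_units, Nat.card_eq_fintype_card (α := F),
      T.card16, Nat.card_eq_fintype_card (α := {v // v ∈ clsSet L δ}), Fintype.card_coe] at hle
    have hcl := card_clsSet (L := L) T.hm T.deg T.hδ
    rw [T.card16] at hcl
    omega
  rw [← Subgroup.card_mul_index H]
  calc Nat.card H * H.index ≤ 72 * 91 := Nat.mul_le_mul hHc (by omega)
    _ = 6552 := rfl

/-- Every element is semilinear. -/
theorem semi {g : GL (Fin 3) F} (hg : g ∈ M) : Semi Φ g := by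
  classical
  obtain ⟨s, hsM, u, hsu, hord, huF, -, -⟩ :=
    T.toSetup.exists_prime_elem (r := 13) (by norm_num) (by rw [T.card16]; norm_num)
      (by rw [T.card16]; norm_num)
  -- the kernel of the norm
  set K0 := (Units.map (Algebra.norm F : L →* F)).ker with hK0
  have hK0c : Nat.card K0 = 273 := by
    have h1 := Subgroup.card_mul_index K0
    rw [hK0, Subgroup.index_ker, MonoidHom.range_eq_top.2
      (FiniteField.unitsMap_norm_surjective F L), Subgroup.card_top, Nat.card_units, Nat.card_units,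
      Module.natCard_eq_pow_finrank (K := F) (V := L), T.deg, Nat.card_eq_fintype_card (α := F), T.card16] at h1
    rw [hK0]; omega
  choose τ hτM hτ using fun w : K0 => T.mulg_mem (w.1 : L) (by
    simpa using congrArg Units.val w.2)
  have hτm : ∀ w, IsMulg Φ (τ w) (w.1 : L) := hτ
  let τh : K0 →* GL (Fin 3) F :=
    { toFun := τ
      map_one' := (hτm 1).unique isMulg_one
      map_mul' := fun v w => (hτm (v * w)).unique ((hτm v).mul (hτm w)) }
  have hτinj : Function.Injective τh := fun v w h =>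
    Subtype.ext (Units.ext ((hτm v).eq ((show τ v = τ w from h) ▸ hτm w)))
  set C := Subgroup.zpowers s
  set N := M ⊓ Subgroup.normalizer (C : Set (GL (Fin 3) F))
  have hTN : τh.range ≤ N := by
    rintro _ ⟨w, rfl⟩
    refine ⟨hτM w, Subgroup.centralizer_le_normalizer _ ?_⟩
    rw [Subgroup.mem_centralizer_iff]
    rintro x ⟨i, rfl⟩
    exact ((Commute.zpow_right (show Commute (τh w) s from
      IsMulg.unique ((hτm w).mul hsu) (by rw [mul_comm]; exact hsu.mul (hτm w))) i).eq).symm
  obtain ⟨f, hfM, hf⟩ := T.frob_mem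
  have hfN : f ∈ N := by
    refine ⟨hfM, ?_⟩
    have hconj : f * s * f⁻¹ = s ^ Fintype.card F := by
      rw [mul_inv_eq_iff_eq_mul]
      refine gl_ext fun x => ?_
      obtain ⟨y, rfl⟩ := Φ.surjective x
      rw [map_mul, map_mul, LinearEquiv.mul_apply, LinearEquiv.mul_apply, hsu, hf, hf, hsu.pow,
        mul_pow]
    have hfin : IsOfFinOrder s := isOfFinOrder_of_finite s
    have hsub : ∀ x ∈ C, f * x * f⁻¹ ∈ C := by
      rintro x ⟨i, rfl⟩
      refine ⟨(Fintype.card F : ℤ) * i, ?_⟩
      show s ^ ((Fintype.card F : ℤ) * i) = f * s ^ i * f⁻¹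
      rw [← conj_zpow, hconj, zpow_mul, zpow_natCast]
    refine Subgroup.mem_normalizer_iff.2 fun x => ⟨hsub x, fun hx => ?_⟩
    obtain ⟨y, hy⟩ := Finite.surjective_of_injective
      (f := fun y : C => (⟨_, hsub y y.2⟩ : C))
      (fun a b hab => Subtype.ext (by simpa using congrArg Subtype.val hab)) ⟨_, hx⟩
    have : (y : GL (Fin 3) F) = x := by simpa using congrArg Subtype.val hy
    exact this ▸ y.2
  have hN : 546 ≤ Nat.card N := by
    obtain ⟨t, ht⟩ := Subgroup.card_dvd_of_le hTN
    have hTc : Nat.card τh.range = 273 := by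
      rw [← hK0c]
      exact (Nat.card_congr (MonoidHom.ofInjective hτinj).toEquiv).symm
    rw [hTc] at ht
    have hne : t ≠ 1 := fun h1 => by
      rw [h1, mul_one] at ht
      have heq : τh.range = N := Subgroup.eq_of_le_of_card_ge hTN (by rw [ht, hTc])
      obtain ⟨w, hw⟩ : f ∈ τh.range := heq ▸ hfN
      have h2 : IsMulg Φ f (w.1 : L) := hw ▸ hτm w
      have hall : ∀ y : L, y ^ Fintype.card F = (w.1 : L) * y := fun y =>
        Φ.injective ((hf y).symm.trans (h2 y))
      have hw1 : (w.1 : L) = 1 := by simpa using (hall 1).symm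
      simp only [hw1, one_mul] at hall
      have hcard : Fintype.card L ≤ Fintype.card F := by
        have h4 := Polynomial.card_le_degree_of_subset_roots
          (p := (Polynomial.X ^ Fintype.card F - Polynomial.X : Polynomial L)) (Z := univ) fun x _ => by
          rw [Polynomial.mem_roots (FiniteField.X_pow_card_sub_X_ne_zero L (by rw [T.card16]; norm_num))]
          simp [hall x]
        rwa [card_univ, FiniteField.X_pow_card_sub_X_natDegree_eq L (by rw [T.card16]; norm_num)] at h4
      rw [Module.card_eq_pow_finrank (K := F) (V := L), T.deg, T.card16] at hcard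
      norm_num at hcard
    have : t ≠ 0 := fun h0 => by
      rw [h0, mul_zero] at ht
      exact Nat.card_pos.ne' ht
    rw [ht]
    calc 546 = 273 * 2 := rfl
      _ ≤ 273 * t := Nat.mul_le_mul_left _ (by omega)
  have hidx : (N.subgroupOf M).index ≤ 12 := by
    have h1 := Subgroup.card_mul_index (N.subgroupOf M)
    rw [Nat.card_congr (Subgroup.subgroupOfEquivOfLe (inf_le_left : N ≤ M)).toEquiv] at h1
    have := T.card_le
    have h3 : 546 * (N.subgroupOf M).index ≤ 6552 := by
      calc _ ≤ Nat.card N * (N.subgroupOf M).index := Nat.mul_le_mul_right _ hN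
        _ ≤ 6552 := h1.trans_le this
    omega
  -- a short orbit
  let s' : M := ⟨s, hsM⟩
  have hfix : ∀ z : M ⧸ N.subgroupOf M, s' • z = z := by
    intro z
    have hper : Function.minimalPeriod (s' • ·) z ∣ 13 := by
      have h13 : s' ^ 13 = 1 := Subtype.ext (by
        rw [SubgroupClass.coe_pow, ← hord]; exact pow_orderOf_eq_one s)
      exact (MulAction.pow_smul_eq_iff_minimalPeriod_dvd).1 (by rw [h13, one_smul])
    rcases (by norm_num : Nat.Prime 13).eq_one_or_self_of_dvd _ hper with h | h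
    · exact Function.minimalPeriod_eq_one_iff_isFixedPt.1 h
    · have hinj : Function.Injective (fun i : Fin 13 => (s' ^ (i : ℕ)) • z) := by
        intro i j hij
        simp only [← smul_iterate] at hij
        exact Fin.ext (Function.iterate_injOn_Iio_minimalPeriod (by rw [h]; exact i.2)
          (by rw [h]; exact j.2) hij)
      have := Nat.card_le_card_of_injective _ hinj
      rw [Nat.card_fin, ← Subgroup.index_eq_card] at this
      omega
  have hgg := hfix (QuotientGroup.mk (⟨g, hg⟩⁻¹ : M))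
  rw [MulAction.Quotient.smul_mk, smul_eq_mul, eq_comm, QuotientGroup.eq,
    Subgroup.mem_subgroupOf] at hgg
  simp only [Subgroup.coe_mul, Subgroup.coe_inv, inv_inv, s'] at hgg
  rw [← mul_assoc] at hgg
  set x := g * s * g⁻¹ with hxdef
  have hxs : x * s = s * x := by
    obtain ⟨j, hj⟩ := Subgroup.mem_zpowers_iff.1 ((Subgroup.mem_normalizer_iff.1 hgg.2 s).1
      (Subgroup.mem_zpowers s))
    have hit : ∀ n : ℕ, x ^ n * s * (x ^ n)⁻¹ = s ^ (j ^ n) := by
      intro n
      induction n with
      | zero => simp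
      | succ n ih =>
        rw [pow_succ' x, mul_inv_rev,
          show x * x ^ n * s * ((x ^ n)⁻¹ * x⁻¹) = x * (x ^ n * s * (x ^ n)⁻¹) * x⁻¹ by group,
          ih, ← conj_zpow, ← hj, ← zpow_mul, ← pow_succ']
    have hx13 : x ^ 13 = 1 := by
      rw [hxdef, conj_pow, ← hord, pow_orderOf_eq_one, mul_one, mul_inv_cancel]
    have h1 := hit 13
    rw [hx13, one_mul, inv_one, mul_one] at h1
    have h2 : (j : ZMod 13) ^ 13 = 1 := by
      have h3 : s ^ (j ^ 13 - 1) = 1 := by rw [zpow_sub_one, ← h1, mul_inv_cancel]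
      rw [← orderOf_dvd_iff_zpow_eq_one, hord, ← ZMod.intCast_zmod_eq_zero_iff_dvd] at h3
      push_cast at h3
      exact sub_eq_zero.1 h3
    haveI : Fact (Nat.Prime 13) := ⟨by norm_num⟩
    rw [ZMod.pow_card] at h2
    have hj1 : s ^ (j - 1) = 1 := by
      rw [← orderOf_dvd_iff_zpow_eq_one, hord, ← ZMod.intCast_zmod_eq_zero_iff_dvd]
      push_cast
      rw [h2, sub_self]
    rw [zpow_sub_one, mul_inv_eq_one, hj, mul_inv_eq_iff_eq_mul] at hj1
    exact hj1
  exact semi_of_conj T.deg hsu huF (mulg_of_commute T.deg hsu huF hxs)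

end Six

end Cfsg.Agent.SL3Max.Singer
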