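/-
The normaliser of a Singer cycle of `SL₃(q)`, `q ≠ 4`, is maximal.
Main results: `singer_maximal`.
-/
import Cfsg.Agent.Lib.SL3Max.Singer.Sixteen
import Cfsg.Agent.Lib.SL3Max.Singer.Polar
import Cfsg.Agent.Lib.SL3Max.Singer.Odd
import Cfsg.Agent.Lib.FieldExtMax.Main
import Cfsg.Agent.Lib.PrimeDim.SLProper

set_option autoImplicit false
set_option linter.unusedSectionVars false

namespace Cfsg.Agent.SL3Max.Singer

open Cfsg.Agent.Transvect Module Matrix

variable {F : Type*} [Field F] [Fintype F]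

/-- An overgroup contains `SL₃` or is semilinear. -/
theorem Setup.sl_or_semi {L : Type*} [Field L] [Fintype L] [Algebra F L] {Φ : L ≃ₗ[F] V3 F}
    {M : Subgroup (GL (Fin 3) F)} (S : Setup Φ M) (hq4 : Fintype.card F ≠ 4) :
    Cfsg.Geo.specialLinear (Fin 3) F ≤ M ∨ ∀ g ∈ M, Semi Φ g := by
  classical
  haveI : Finite (Matrix (Fin 3) (Fin 3) F) := inferInstanceAs (Finite (Fin 3 → Fin 3 → F))
  by_cases hcen : ∃ c, Cen M c
  · obtain ⟨c, hc⟩ := hcen
    by_cases h3 : 3 ∣ Fintype.card F - 1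
    swap
    · exact Or.inl (sl_le_of_transitive (S.ptTrans_of_not_dvd h3) hc)
    obtain ⟨m, hm⟩ := h3
    have hm : Fintype.card F = 3 * m + 1 := by have := Fintype.card_pos (α := F); omega
    rcases S.ptTrans_or_invariant hm with h | ⟨κ, hκ, hinv⟩
    · exact Or.inl (sl_le_of_transitive h hc)
    refine Or.inr ?_
    have h7 : 7 ≤ Fintype.card F := by
      have := m_pos hm
      rcases Nat.lt_or_ge m 2 with h | h <;> omega
    obtain ⟨f, hp, hf⟩ := FiniteField.card F (ringChar F)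
    set p := ringChar F with hpdef
    haveI : CharP F p := ringChar.charP F
    obtain ⟨x, rfl⟩ := Φ.surjective c
    obtain ⟨hc0, φ, hφ0, hφc, hφ⟩ := hc
    obtain ⟨a, rfl⟩ := exists_dd Φ φ
    have ha : a ≠ 0 := fun h => hφ0 (by rw [h]; ext y; simp [dd])
    have hx : x ≠ 0 := fun h => hc0 (by rw [h, map_zero])
    have hax : Axis M (dd Φ a) := ⟨hφ0, Φ x, hc0, hφc, hφ⟩
    have hcx : Cen M (Φ x) := ⟨hc0, dd Φ a, hφ0, hφc, hφ⟩
    obtain ⟨P, hP2, hPq, hPp, -, hP4, hsum⟩ := S.axis_bound hm hp hf h7 hκ hinv ha hax {cls F x}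
      (fun d hd => ⟨(Finset.mem_singleton.1 hd) ▸ cls_cube hm hx, x,
        (Finset.mem_singleton.1 hd).symm, hcx⟩)
    rw [Finset.sum_singleton] at hsum
    have h16 : Fintype.card F = 16 := eq_sixteen hp hf (by omega) h7 hP4
      (e_sq_le (L := L) hm S.deg (by rw [mul_pow, cls_cube hm ha, cls_cube hm hx, one_mul]))
      hP2 hPq hPp hsum
    have hp2 : p = 2 := by
      have hdvd : p ∣ 2 ^ 4 := by
        rw [show (2 : ℕ) ^ 4 = 16 from rfl, ← h16, hf]; exact dvd_pow_self p f.ne_zero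
      exact (Nat.prime_dvd_prime_iff_eq hp Nat.prime_two).1 (hp.dvd_of_dvd_pow hdvd)
    haveI : CharP F 2 := hp2 ▸ ringChar.charP F
    exact fun g hg => (S.one_class h16 hκ hinv hcx hax).semi hg
  · push Not at hcen
    rcases Nat.even_or_odd (Nat.card M) with he | ho
    swap
    · exact Or.inr (S.odd_semi ho)
    exfalso
    haveI : Fact (Nat.Prime 2) := ⟨Nat.prime_two⟩
    obtain ⟨t, ht⟩ := exists_prime_orderOf_dvd_card' (G := M) 2 he.two_dvd
    have ht2 : (t : GL (Fin 3) F) * t = 1 := by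
      rw [← Subgroup.coe_mul, ← pow_two, ← ht, pow_orderOf_eq_one, Subgroup.coe_one]
    have ht1 : (t : GL (Fin 3) F) ≠ 1 := fun h => by
      rw [show t = 1 from Subtype.ext h, orderOf_one] at ht
      norm_num at ht
    rcases involution_cases ht2 ht1 (mem_sl_iff.1 (S.le t.2)) with
      ⟨-, c, φ, hc0, hφ0, hφc, htv⟩ | ⟨h2, c, φ, hφc, hhml⟩
    · exact hcen c ⟨hc0, φ, hφ0, hφc, htv ▸ t.2⟩
    · exact S.no_homology hcen hq4 h2 hφc (hhml ▸ t.2)

/-- The statement for an embedded extension. -/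
theorem singer_aux {L : Type*} [Field L] [Fintype L] [Algebra F L] (hdeg : finrank F L = 3)
    (hq4 : Fintype.card F ≠ 4) (j : L →ₐ[F] Matrix (Fin 3) (Fin 3) F)
    {K : Subalgebra F (Matrix (Fin 3) (Fin 3) F)} (hjK : ∀ x, x ∈ K ↔ ∃ l, j l = x)
    (M : Subgroup (GL (Fin 3) F))
    (hHM : Cfsg.Geo.subalgebraNormalizer K ⊓ Cfsg.Geo.specialLinear (Fin 3) F ≤ M)
    (hMS : M ≤ Cfsg.Geo.specialLinear (Fin 3) F) :
    Cfsg.Geo.specialLinear (Fin 3) F ≤ M ∨ M ≤ Cfsg.Geo.subalgebraNormalizer K := by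
  classical
  haveI : Module.Finite F L := Module.Finite.of_finite
  set e0 : V3 F := Pi.single 0 1
  let f : L →ₗ[F] V3 F :=
    { toFun := fun k => j k *ᵥ e0
      map_add' := fun a b => by rw [map_add, Matrix.add_mulVec]
      map_smul' := fun c a => by rw [map_smul, Matrix.smul_mulVec]; rfl }
  have hfinj : Function.Injective f := by
    rw [injective_iff_map_eq_zero]
    intro k hk
    by_contra hk0
    have h1 : j k⁻¹ *ᵥ (j k *ᵥ e0) = 0 := by
      rw [show j k *ᵥ e0 = 0 from hk, Matrix.mulVec_zero]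
    rw [Matrix.mulVec_mulVec, ← map_mul, inv_mul_cancel₀ hk0, map_one, Matrix.one_mulVec] at h1
    simpa [e0] using congrFun h1 0
  let Φ : L ≃ₗ[F] V3 F := LinearEquiv.ofBijective f ⟨hfinj,
    (LinearMap.injective_iff_surjective_of_finrank_eq_finrank (by rw [hdeg]; simp)).1 hfinj⟩
  have hj : ∀ k y, Φ (k * y) = j k *ᵥ Φ y := fun k y => by
    show j (k * y) *ᵥ e0 = j k *ᵥ (j y *ᵥ e0)
    rw [map_mul, Matrix.mulVec_mulVec]
  letI : Module L (V3 F) := Module.compHom _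
    ((Matrix.toLinAlgEquiv' : Matrix (Fin 3) (Fin 3) F ≃ₐ[F] _).toAlgHom.toRingHom.comp j.toRingHom :
      L →+* (V3 F →ₗ[F] V3 F))
  have hsmul : ∀ (k : L) (x : V3 F), k • x = j k *ᵥ x := fun k x => by
    show (Matrix.toLinAlgEquiv' (j k)) x = _
    simp
  haveI : IsScalarTower F L (V3 F) := ⟨fun c k x => by
    rw [hsmul, hsmul, map_smul, Matrix.smul_mulVec]⟩
  have hnorm := FieldExtMax.mem_normalizer_iff j hjK hsmul
  have hsemi : ∀ g, Semi Φ g → g ∈ Cfsg.Geo.subalgebraNormalizer K := fun g hg => by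
    refine (hnorm g).2 fun k => ?_
    obtain ⟨k', hk'⟩ := hg k
    refine ⟨k', fun x => ?_⟩
    obtain ⟨y, rfl⟩ := Φ.surjective x
    rw [hsmul, hsmul, ← hj, ← Φ.apply_symm_apply (app g (Φ (k * y))), hk', hj, Φ.apply_symm_apply]
  have S : Setup Φ M :=
    { deg := hdeg
      le := hMS
      mulg_mem := fun u hu => by
        have hu0 : u ≠ 0 := fun h => by rw [h, Algebra.norm_zero] at hu; exact zero_ne_one hu
        obtain ⟨g, hg, hgd⟩ := exists_gl Φ (LinearEquiv.ofBijective (LinearMap.mulLeft F u)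
          ⟨mul_right_injective₀ hu0, fun y => ⟨u⁻¹ * y, by simp [hu0]⟩⟩)
        refine ⟨g, hHM ⟨hsemi g fun k => ⟨k, fun y => ?_⟩, ?_⟩, hg⟩
        · rw [hg, hg, Φ.symm_apply_apply, Φ.symm_apply_apply]
          exact mul_left_comm u k y
        · show g ∈ Cfsg.Geo.specialLinear (Fin 3) F
          rw [mem_sl_iff, hgd, ← hu]
          rfl
      frob_mem := by
        obtain ⟨g, hg, hgd⟩ := exists_gl Φ (frob F L).toLinearEquiv
        refine ⟨g, hHM ⟨hsemi g fun k => ⟨k ^ Fintype.card F, fun y => ?_⟩, ?_⟩, fun y => ?_⟩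
        · rw [hg, hg, Φ.symm_apply_apply, Φ.symm_apply_apply]
          exact mul_pow k y _
        · show g ∈ Cfsg.Geo.specialLinear (Fin 3) F
          rw [mem_sl_iff, hgd]
          exact det_frob hdeg
        · exact hg y }
  exact (S.sl_or_semi hq4).imp id fun h g hg => hsemi g (h g hg)

/-- The normaliser of a field subalgebra of degree three is maximal. -/
theorem singer_maximal (hq4 : Fintype.card F ≠ 4) {K : Subalgebra F (Matrix (Fin 3) (Fin 3) F)}
    (hK : Cfsg.Geo.IsFieldSubalgebra 3 K) :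
    Cfsg.Geo.IsMaximalIn (Cfsg.Geo.specialLinear (Fin 3) F)
      (Cfsg.Geo.subalgebraNormalizer K ⊓ Cfsg.Geo.specialLinear (Fin 3) F) := by
  have hnle := PrimeDim.not_sl_le_subalgebraNormalizer (ι := Fin 3) (by simp) (by norm_num) hK
  refine ⟨lt_of_le_of_ne inf_le_right fun h => hnle (inf_eq_right.1 h), fun M hM₁ hM₂ => ?_⟩
  haveI : Finite (Matrix (Fin 3) (Fin 3) F) := inferInstanceAs (Finite (Fin 3 → Fin 3 → F))
  have hA : IsField K := ⟨exists_pair_ne _, fun x y => Subtype.ext (hK.comm _ x.2 _ y.2),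
    fun {x} hx => by
      obtain ⟨y, hy, h⟩ := hK.inv _ x.2 (fun h => hx (Subtype.ext h))
      exact ⟨⟨y, hy⟩, Subtype.ext h⟩⟩
  letI : Field K := hA.toField
  haveI : Finite K := Subtype.finite
  letI : Fintype K := Fintype.ofFinite K
  rcases singer_aux (L := K) hK.finrank_eq hq4 K.val
    (fun x => ⟨fun h => ⟨⟨x, h⟩, rfl⟩, fun ⟨l, hl⟩ => hl ▸ l.2⟩) M hM₁ hM₂ with h | h
  · exact Or.inr (le_antisymm hM₂ h)
  · exact Or.inl (le_antisymm (le_inf h hM₂) hM₁)

end Cfsg.Agent.SL3Max.Singer
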